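import Cfsg.Agent.H319.FC.Iota
import Cfsg.Agent.H319.FC.Dual
import Cfsg.Agent.H193.FC.GraphFix

/-!
# S3510, row D, box GR: elements of odd order fixed by a graph automorphism of `Sp_4(q)`, `q` even (helper332)

* `no_fix` : a nontrivial element of odd order fixed by an automorphism outside `PΓSp_4` has no fixed vector
* `no_quad` : it does not satisfy `z² + s z + 1 = 0`
-/

set_option autoImplicit false
set_option linter.unusedSectionVars false

namespace Cfsg.Agent.H332.RC

open Cfsg
open Cfsg.Agent.H319.FC Cfsg.Agent.H193.FC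
open Cfsg.Agent.ClassicalGeometry.SympBasic Cfsg.Agent.ClassicalGeometry.SympAutSemi
open Cfsg.Agent.ClassicalGeometry.Sp4Graph Cfsg.Agent.ClassicalGeometry.Sp4GraphAut

universe u

variable {F : Type u} [Field F]

theorem rho_mul_apply (a b : Sp4 F) (v : V4 F) : rho 2 F (a * b) v = rho 2 F a (rho 2 F b v) := by
  rw [map_mul, Equiv.Perm.mul_apply]

theorem rho_one_apply (v : V4 F) : rho 2 F (1 : Sp4 F) v = v := by
  rw [map_one, Equiv.Perm.one_apply]

theorem rho_zero_vec (a : Sp4 F) : rho 2 F a 0 = 0 := semi_zero (isSemi_rho a)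

/-- the average -/
def avg (z : Sp4 F) (n : ℕ) (u : V4 F) : V4 F := ∑ i ∈ Finset.range n, rho 2 F (z ^ i) u

theorem rho_avg (z : Sp4 F) (n : ℕ) (u : V4 F) :
    rho 2 F z (avg z n u) = ∑ i ∈ Finset.range n, rho 2 F (z ^ (i + 1)) u := by
  induction n with
  | zero => exact rho_zero_vec z
  | succ n ih =>
    have h1 : avg z (n + 1) u = avg z n u + rho 2 F (z ^ n) u := Finset.sum_range_succ _ n
    rw [h1, rho_add, ih, Finset.sum_range_succ _ n, ← rho_mul_apply, ← pow_succ']

theorem avg_fix {z : Sp4 F} {n : ℕ} (hn : z ^ n = 1) (u : V4 F) : rho 2 F z (avg z n u) = avg z n u := by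
  rw [rho_avg]
  have h1 := Finset.sum_range_succ (fun i => rho 2 F (z ^ i) u) n
  have h2 := Finset.sum_range_succ' (fun i => rho 2 F (z ^ i) u) n
  rw [h1] at h2
  have h3 : rho 2 F (z ^ n) u = rho 2 F (z ^ 0) u := by rw [hn, pow_zero]
  rw [h3] at h2
  exact (add_right_cancel h2).symm

theorem rho_pow_fix {z : Sp4 F} {v : V4 F} (hv : rho 2 F z v = v) (i : ℕ) : rho 2 F (z ^ i) v = v := by
  induction i with
  | zero => rw [pow_zero, rho_one_apply]
  | succ i ih => rw [pow_succ, rho_mul_apply, hv, ih]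

theorem form_avg {z : Sp4 F} {v : V4 F} (hv : rho 2 F z v = v) (n : ℕ) (u : V4 F) :
    sympForm 2 F v (avg z n u) = n * sympForm 2 F v u := by
  induction n with
  | zero =>
    have h0 : avg z 0 u = 0 := rfl
    rw [h0, sympForm_zero_right, Nat.cast_zero, zero_mul]
  | succ n ih =>
    have h1 : avg z (n + 1) u = avg z n u + rho 2 F (z ^ n) u := Finset.sum_range_succ _ n
    have h2 : sympForm 2 F v (rho 2 F (z ^ n) u) = sympForm 2 F v u := by
      have h3 := sympForm_rho (z ^ n) v u
      rwa [rho_pow_fix hv] at h3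
    rw [h1, sympForm_add_right, ih, h2]
    push_cast
    ring

section char2

variable [CharP F 2]

theorem cast_odd {n : ℕ} (hn : Odd n) : (n : F) = 1 := by
  obtain ⟨k, rfl⟩ := hn
  push_cast
  rw [CharTwo.two_eq_zero (R := F), zero_mul, zero_add]

/-- a fixed vector of an element of odd order has a fixed partner -/
theorem exists_partner {z : Sp4 F} (ho : Odd (orderOf z)) {v u : V4 F} (hv : rho 2 F z v = v)
    (hu : sympForm 2 F v u = 1) :
    ∃ v', rho 2 F z v' = v' ∧ sympForm 2 F v v' = 1 ∧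
      ∀ w, rho 2 F z w = w → sympForm 2 F w u = 0 → sympForm 2 F w v' = 0 := by
  refine ⟨avg z (orderOf z) u, avg_fix (pow_orderOf_eq_one z) u, ?_, ?_⟩
  · rw [form_avg hv, hu, cast_odd ho, one_mul]
  · intro w hw h0
    rw [form_avg hw, h0, mul_zero]

/-- a plane on which `y w ∈ ⟨w⟩`: `y` is trivial on it -/
theorem fix_pair {y : Sp4 F} (hy : ∀ w, sympForm 2 F (rho 2 F y w + w) w = 0) {v v' : V4 F}
    (hvv : sympForm 2 F v v' = 1) {a b c d : F} (h1 : rho 2 F y v = a • v + b • v')
    (h2 : rho 2 F y v' = c • v + d • v') : rho 2 F y v = v ∧ rho 2 F y v' = v' := by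
  have hs : sympForm 2 F v' v = 1 := by rw [form_symm, hvv]
  have hb : b = 0 := by
    have := hy v
    rw [h1, sympForm_add_left, sympForm_add_left, sympForm_smul_left, sympForm_smul_left, sympForm_self, hs] at this
    simpa using this
  have hc : c = 0 := by
    have := hy v'
    rw [h2, sympForm_add_left, sympForm_add_left, sympForm_smul_left, sympForm_smul_left, sympForm_self, hvv] at this
    simpa using this
  rw [hb, zero_smul, add_zero] at h1
  rw [hc, zero_smul, zero_add] at h2
  have had : a + d = 0 := by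
    have := hy (v + v')
    rw [rho_add, h1, h2] at this
    simp only [sympForm_add_left, sympForm_add_right, sympForm_smul_left, sympForm_self, hs, hvv] at this
    have h22 : (2 : F) = 0 := CharTwo.two_eq_zero
    linear_combination this - h22
  have hmul : a * d = 1 := by
    have := sympForm_rho y v v'
    rw [h1, h2, sympForm_smul_left, sympForm_smul_right, hvv, mul_one] at this
    exact this
  have hda : d = a := by
    have h22 : (2 : F) = 0 := CharTwo.two_eq_zero
    linear_combination had - a * h22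
  rw [hda] at hmul
  have ha : a = 1 := by
    have h22 : (2 : F) = 0 := CharTwo.two_eq_zero
    have h3 : (a - 1) ^ 2 = 0 := by linear_combination hmul - (a - 1) * h22
    exact sub_eq_zero.1 (pow_eq_zero_iff two_ne_zero |>.1 h3)
  rw [h1, h2, hda, ha, one_smul, one_smul]
  exact ⟨rfl, rfl⟩

/-- two elements which agree on a symplectic basis are equal -/
theorem sp_ext4 {y y' : Sp4 F} {v w v' w' : V4 F} (h12 : sympForm 2 F v w = 0) (h13 : sympForm 2 F v v' = 1)
    (h14 : sympForm 2 F v w' = 0) (h23 : sympForm 2 F w v' = 0) (h24 : sympForm 2 F w w' = 1)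
    (h34 : sympForm 2 F v' w' = 0) (e1' : rho 2 F y v = rho 2 F y' v) (e2' : rho 2 F y w = rho 2 F y' w)
    (e3' : rho 2 F y v' = rho 2 F y' v') (e4' : rho 2 F y w' = rho 2 F y' w') : y = y' := by
  obtain ⟨A, hA⟩ := exists_sp h12 h13 h14 h23 h24 h34
  have h : ∀ x, rho 2 F y (rho 2 F A x) = rho 2 F y' (rho 2 F A x) := by
    intro x
    rw [hA]
    simp only [rho_add, rho_smul, e1', e2', e3', e4']
  apply rho_injective
  ext1 x
  obtain ⟨x, rfl⟩ := (rho 2 F A).surjective x
  exact h x

/-- a symplectic basis containing a given hyperbolic pair -/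
theorem exists_rest {v v' : V4 F} (hvv : sympForm 2 F v v' = 1) :
    ∃ w w' : V4 F, sympForm 2 F v w = 0 ∧ sympForm 2 F v' w = 0 ∧ sympForm 2 F v w' = 0 ∧
      sympForm 2 F v' w' = 0 ∧ sympForm 2 F w w' = 1 := by
  have hv : v ≠ 0 := by
    rintro rfl
    rw [sympForm_zero_left] at hvv
    exact zero_ne_one hvv
  have he : e1 F ≠ 0 := e1_ne
  obtain ⟨g, -, hg⟩ := exists_transvGroup_mulVec_eq he hv
  have hg' : rho 2 F g (e1 F) = v := hg
  obtain ⟨b, hb⟩ : ∃ b, b = rho 2 F g (e2 F) := ⟨_, rfl⟩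
  obtain ⟨c, hc⟩ : ∃ c, c = rho 2 F g (f2 F) := ⟨_, rfl⟩
  have h1 : sympForm 2 F v b = 0 := by rw [← hg', hb, sympForm_rho, form_e1_e2]
  have h2 : sympForm 2 F v c = 0 := by rw [← hg', hc, sympForm_rho, form_e1_f2]
  have h3 : sympForm 2 F b c = 1 := by rw [hb, hc, sympForm_rho, form_e2_f2]
  have hs : sympForm 2 F v' v = 1 := by rw [form_symm, hvv]
  refine ⟨b + sympForm 2 F v' b • v, c + sympForm 2 F v' c • v, ?_, ?_, ?_, ?_, ?_⟩
  · rw [sympForm_add_right, sympForm_smul_right, sympForm_self, h1, mul_zero, add_zero]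
  · rw [sympForm_add_right, sympForm_smul_right, hs, mul_one]
    exact CharTwo.add_self_eq_zero _
  · rw [sympForm_add_right, sympForm_smul_right, sympForm_self, h2, mul_zero, add_zero]
  · rw [sympForm_add_right, sympForm_smul_right, hs, mul_one]
    exact CharTwo.add_self_eq_zero _
  · have h4 : sympForm 2 F b v = 0 := by rw [form_symm, h1]
    simp only [sympForm_add_left, sympForm_add_right, sympForm_smul_left, sympForm_smul_right, sympForm_self, h2, h3, h4]
    ring

/-- coordinates in a symplectic basis -/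
theorem coord {v v' w w' : V4 F} (hvv : sympForm 2 F v v' = 1) (h1 : sympForm 2 F v w = 0)
    (h2 : sympForm 2 F v' w = 0) (h3 : sympForm 2 F v w' = 0) (h4 : sympForm 2 F v' w' = 0)
    (h5 : sympForm 2 F w w' = 1) (x : V4 F) :
    x = sympForm 2 F v' x • v + sympForm 2 F v x • v' + sympForm 2 F w' x • w + sympForm 2 F w x • w' := by
  obtain ⟨A, hA⟩ := exists_sp (a := v) (b := w) (c := v') (d := w') h1 hvv h3 (by rw [form_symm, h2]) h5 h4
  obtain ⟨x, rfl⟩ := (rho 2 F A).surjective x
  rw [hA]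
  have e1' : sympForm 2 F v' v = 1 := by rw [form_symm, hvv]
  have e2' : sympForm 2 F w' v = 0 := by rw [form_symm, h3]
  have e3' : sympForm 2 F w v = 0 := by rw [form_symm, h1]
  have e4' : sympForm 2 F w' v' = 0 := by rw [form_symm, h4]
  have e5' : sympForm 2 F w v' = 0 := by rw [form_symm, h2]
  have e6' : sympForm 2 F w' w = 1 := by rw [form_symm, h5]
  simp only [sympForm_add_right, sympForm_smul_right, sympForm_self, e1', e2', e3', e4', e5', e6', hvv, h1, h2, h3,
    h4, h5, mul_one, mul_zero, add_zero, zero_add]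
  abel

/-- **Key**: an isometry `y` with `B (y w + w, w) = 0` commuting with an element `z ≠ 1` of odd order which fixes a
vector is trivial. -/
theorem key {z y : Sp4 F} (hz1 : z ≠ 1) (ho : Odd (orderOf z)) (hzy : z * y = y * z)
    (hy : ∀ w, sympForm 2 F (rho 2 F y w + w) w = 0) {v : V4 F} (hv : v ≠ 0) (hzv : rho 2 F z v = v) : y = 1 := by
  -- a hyperbolic pair fixed by `z`
  obtain ⟨u, hu⟩ : ∃ u, sympForm 2 F v u = 1 := by
    by_contra hno
    push Not at hno
    apply hv
    apply eq_zero_of_forall_sympForm_right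
    intro x
    by_contra hx
    apply hno ((sympForm 2 F v x)⁻¹ • x)
    rw [sympForm_smul_right]
    exact inv_mul_cancel₀ hx
  obtain ⟨v', hzv', hvv, -⟩ := exists_partner ho hzv hu
  obtain ⟨w, w', h1, h2, h3, h4, h5⟩ := exists_rest hvv
  have hsv : sympForm 2 F v' v = 1 := by rw [form_symm, hvv]
  -- the fixed vectors of `z`
  have hfix : ∀ x, rho 2 F z x = x → sympForm 2 F v x = 0 → sympForm 2 F v' x = 0 → x = 0 := by
    intro x hx hx1 hx2
    by_contra hx0
    obtain ⟨u₂, hu₂⟩ : ∃ u, sympForm 2 F x u = 1 := by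
      by_contra hno
      push Not at hno
      apply hx0
      apply eq_zero_of_forall_sympForm_right
      intro t
      by_contra ht
      apply hno ((sympForm 2 F x t)⁻¹ • t)
      rw [sympForm_smul_right]
      exact inv_mul_cancel₀ ht
    obtain ⟨u₃, hu₃⟩ : ∃ u₃, u₃ = u₂ + sympForm 2 F v' u₂ • v + sympForm 2 F v u₂ • v' := ⟨_, rfl⟩
    have hxv : sympForm 2 F x v = 0 := by rw [form_symm, hx1]
    have hxv' : sympForm 2 F x v' = 0 := by rw [form_symm, hx2]
    have a1 : sympForm 2 F x u₃ = 1 := by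
      rw [hu₃]
      simp only [sympForm_add_right, sympForm_smul_right, hu₂, hxv, hxv', mul_zero, add_zero]
    have a2 : sympForm 2 F v u₃ = 0 := by
      rw [hu₃]
      simp only [sympForm_add_right, sympForm_smul_right, sympForm_self, hvv, mul_zero, add_zero, mul_one]
      exact CharTwo.add_self_eq_zero _
    have a3 : sympForm 2 F v' u₃ = 0 := by
      rw [hu₃]
      simp only [sympForm_add_right, sympForm_smul_right, sympForm_self, hsv, mul_zero, add_zero, mul_one]
      exact CharTwo.add_self_eq_zero _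
    obtain ⟨x', hx', hxx, hperp⟩ := exists_partner ho hx a1
    have b1 := hperp v hzv a2
    have b2 := hperp v' hzv' a3
    apply hz1
    refine sp_ext4 (y := z) (y' := 1) (v := v) (w := x) (v' := v') (w' := x') hx1 hvv b1 hxv' hxx b2 ?_ ?_ ?_ ?_
    · rw [hzv, rho_one_apply]
    · rw [hx, rho_one_apply]
    · rw [hzv', rho_one_apply]
    · rw [hx', rho_one_apply]
  -- `y` preserves the plane
  have hyz : ∀ x, rho 2 F z x = x → rho 2 F z (rho 2 F y x) = rho 2 F y x := by
    intro x hx
    rw [← rho_mul_apply, hzy, rho_mul_apply, hx]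
  have hin : ∀ x, rho 2 F z x = x → x = sympForm 2 F v' x • v + sympForm 2 F v x • v' := by
    intro x hx
    obtain ⟨t, ht⟩ : ∃ t, t = x + (sympForm 2 F v' x • v + sympForm 2 F v x • v') := ⟨_, rfl⟩
    have h6 : t = 0 := by
      apply hfix
      · rw [ht, rho_add, rho_add, rho_smul, rho_smul, hx, hzv, hzv']
      · rw [ht]
        simp only [sympForm_add_right, sympForm_smul_right, sympForm_self, hvv, mul_zero, zero_add, mul_one]
        exact CharTwo.add_self_eq_zero _
      · rw [ht]
        simp only [sympForm_add_right, sympForm_smul_right, sympForm_self, hsv, mul_zero, add_zero, mul_one]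
        exact CharTwo.add_self_eq_zero _
    rw [h6] at ht
    funext i
    have h7 := congrFun ht i
    rw [Pi.zero_apply, Pi.add_apply] at h7
    exact CharTwo.add_eq_zero.1 h7.symm
  obtain ⟨f1', f2'⟩ := fix_pair hy hvv (hin _ (hyz v hzv)) (hin _ (hyz v' hzv'))
  -- and its orthogonal complement
  have hpv : ∀ x, sympForm 2 F v (rho 2 F y x) = sympForm 2 F v x := by
    intro x
    have := sympForm_rho y v x
    rwa [f1'] at this
  have hpv' : ∀ x, sympForm 2 F v' (rho 2 F y x) = sympForm 2 F v' x := by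
    intro x
    have := sympForm_rho y v' x
    rwa [f2'] at this
  have hc1 := coord hvv h1 h2 h3 h4 h5 (rho 2 F y w)
  have hc2 := coord hvv h1 h2 h3 h4 h5 (rho 2 F y w')
  rw [hpv, hpv', h1, h2, zero_smul, zero_smul, zero_add, zero_add] at hc1
  rw [hpv, hpv', h3, h4, zero_smul, zero_smul, zero_add, zero_add] at hc2
  obtain ⟨f3', f4'⟩ := fix_pair hy h5 hc1 hc2
  refine sp_ext4 (y := y) (y' := 1) (v := v) (w := w) (v' := v') (w' := w') h1 hvv h3 (by rw [form_symm, h2]) h5 h4
    ?_ ?_ ?_ ?_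
  · rw [f1', rho_one_apply]
  · rw [f3', rho_one_apply]
  · rw [f2', rho_one_apply]
  · rw [f4', rho_one_apply]

/-- images of transvections under an automorphism outside `PΓSp` -/
theorem graph_image [Finite F] (hq : 4 ≤ Nat.card F) {δ : MulAut (Sp4 F)} (hδ : δ ∉ (conjHom 2 F).range) {v : V4 F}
    (hv : v ≠ 0) (w : V4 F) : sympForm 2 F (rho 2 F (δ (transv v 1)) w + w) w = 0 := by
  obtain ⟨g, rfl⟩ := exists_graph hq hδ
  obtain ⟨φ, l, hl, hs⟩ := g.2
  obtain ⟨k, -, hk⟩ := exists_transvGroup_mulVec_eq (e1_ne (F := F)) hv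
  have hk' : rho 2 F k (e1 F) = v := hk
  have h1 : transv v 1 = k * transv (e1 F) 1 * k⁻¹ := by rw [conj_transv', hk']
  have h2 : ∀ x, sympForm 2 F (rho 2 F (S (1 : F)) x + x) x = 0 := by
    intro x
    rw [rho_S]
    have h3 : x + ((1 : F) * x (.inr 1)) • e1 F + ((1 : F) * x (.inr 0)) • e2 F + x =
        (x (.inr 1)) • e1 F + (x (.inr 0)) • e2 F := by
      funext i
      simp only [Pi.add_apply, Pi.smul_apply, smul_eq_mul, one_mul]
      have h22 : (2 : F) = 0 := CharTwo.two_eq_zero
      linear_combination (x i) * h22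
    rw [h3, sympForm_add_left, sympForm_smul_left, sympForm_smul_left, sympForm_eq, sympForm_eq]
    simp [e1, e2]
    have h22 : (2 : F) = 0 := CharTwo.two_eq_zero
    linear_combination (x (.inr 0) * x (.inr 1)) * h22
  have h4 : ∀ x, sympForm 2 F (rho 2 F (graphEquiv F (transv v 1)) x + x) x = 0 := by
    intro x
    have h5 : graphEquiv F (transv v 1) = graphEquiv F k * S 1 * (graphEquiv F k)⁻¹ := by
      rw [h1, map_mul (graphEquiv F), map_mul (graphEquiv F), map_inv (graphEquiv F), graph_transv]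
    rw [h5]
    obtain ⟨x, rfl⟩ := (rho 2 F (graphEquiv F k)).surjective x
    rw [rho_mul_apply, rho_mul_apply, ← rho_mul_apply (graphEquiv F k)⁻¹, inv_mul_cancel, rho_one_apply, ← rho_add,
      sympForm_rho, h2]
  obtain ⟨w, rfl⟩ := g.1.surjective w
  have h5 : rho 2 F ((conjHom 2 F g * graphEquiv F) (transv v 1)) (g.1 w) =
      g.1 (rho 2 F (graphEquiv F (transv v 1)) w) := by
    rw [MulAut.mul_apply]
    exact (rho_conj_apply rfl w).symm
  rw [h5, ← hs.1, hs.2.2, h4, map_zero, mul_zero]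

/-- **No fixed vectors.** -/
theorem no_fix [Finite F] (hq : 4 ≤ Nat.card F) {δ : MulAut (Sp4 F)} (hδ : δ ∉ (conjHom 2 F).range) {z : Sp4 F}
    (hz : δ z = z) (hz1 : z ≠ 1) (ho : Odd (orderOf z)) {v : V4 F} (hzv : rho 2 F z v = v) : v = 0 := by
  by_contra hv
  have h1 : z * transv v 1 * z⁻¹ = transv v 1 := by rw [conj_transv', hzv]
  have h2 : z * δ (transv v 1) = δ (transv v 1) * z := by
    have h3 := congrArg δ h1
    rw [map_mul, map_mul, map_inv, hz] at h3
    exact mul_inv_eq_iff_eq_mul.1 h3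
  have h3 := key hz1 ho h2 (graph_image hq hδ hv) hv hzv
  rw [map_eq_one_iff δ δ.injective] at h3
  exact Cfsg.Agent.ClassicalGeometry.SympAutExists.transv_ne_one hv one_ne_zero h3

/-- **No quadratic elements.** -/
theorem no_quad [Finite F] (hq : 4 ≤ Nat.card F) {δ : MulAut (Sp4 F)} (hδ : δ ∉ (conjHom 2 F).range) {z : Sp4 F}
    (hz : δ z = z) (hz1 : z ≠ 1) (ho : Odd (orderOf z)) :
    ¬ ∃ s : F, ∀ v, rho 2 F z (rho 2 F z v) + s • rho 2 F z v + v = 0 := by
  rintro ⟨s, hs⟩
  obtain ⟨v, hv, hv1⟩ := stF4 F z s hs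
  obtain ⟨g, rfl⟩ := exists_graph hq hδ
  obtain ⟨φ, l, hl, hg⟩ := g.2
  have h1 : rho 2 F z (g.1 v) = g.1 v := by
    have h2 := rho_conj_apply (g := g) (n := graphEquiv F z) rfl v
    rw [hv1] at h2
    have h3 : conjHom 2 F g (graphEquiv F z) = z := hz
    rw [h3] at h2
    exact h2.symm
  have h2 := no_fix hq hδ hz hz1 ho h1
  apply hv
  apply g.1.injective
  rw [h2, semi_zero hg]

end char2

end Cfsg.Agent.H332.RC
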