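import Cfsg.Agent.H332.RC.GrMain
import Cfsg.Agent.H195.RC.IrrGraph
import Cfsg.Agent.H385.RC.IndPsi

/-!
# S3510, row D, box GR(2), for `e : N ≃* PSp 2 F` (helper332)
-/

set_option autoImplicit false
set_option linter.unusedSectionVars false

namespace Cfsg.Agent.H332.RC

open Cfsg Cfsg.Agent.H106.RC Cfsg.Agent.H385.RC Cfsg.Agent.H319.FC
open Cfsg.Agent.ClassicalGeometry.SympAutSemi

variable {F : Type} [Field F] [Finite F] {G : Type} [Group G] {N : Subgroup G}

theorem card_four (h2 : (2 : F) = 0) (hq : 3 ≤ Nat.card F) : 4 ≤ Nat.card F := by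
  have hF := Fintype.ofFinite F
  have hchar : CharP F 2 := CharTwo.of_one_ne_zero_of_two_eq_zero one_ne_zero h2
  have h3 : 2 ∣ Nat.card F := by
    rw [← CharP.cast_eq_zero_iff F 2, Nat.card_eq_fintype_card]
    exact Nat.cast_card_eq_zero F
  omega

/-- **the matrices**: an element which does not induce a semisimilitude induces an automorphism of `Sp_4(F)` outside
`PΓSp` -/
theorem exists_delta (h2 : (2 : F) = 0) (e : N ≃* PSp 2 F) (hN : N.Normal) {g : G} (hg : ¬ IndPsi e g) :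
    ∃ (ε : Sp4 F ≃* N) (δ : MulAut (Sp4 F)), δ ∉ (conjHom 2 F).range ∧
      (∀ n, g * (ε n : G) * g⁻¹ = (ε (δ n) : G)) ∧ ∀ A, e (ε A) = QuotientGroup.mk A := by
  have hchar : CharP F 2 := CharTwo.of_one_ne_zero_of_two_eq_zero one_ne_zero h2
  refine ⟨(mkE F).trans e.symm, (congE F).symm (indAut hN e g), fun h => hg ?_, fun n => ?_, fun A => ?_⟩
  · rw [← congE_mem_range, MulEquiv.apply_symm_apply] at h
    rw [indPsi_iff hN]
    exact h
  · have h1 := indAut_apply hN e g (e.symm (mkE F n))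
    rw [e.apply_symm_apply] at h1
    have h3 : indAut hN e g (mkE F n) = mkE F (((congE F).symm (indAut hN e g)) n) := by
      rw [← congE_mk, MulEquiv.apply_symm_apply]
    rw [h3] at h1
    exact h1.symm
  · change e (e.symm (mkE F A)) = _
    rw [e.apply_symm_apply]
    rfl

/-- **GR(2)** -/
theorem gr_two_psp {Ω ι : Type} [MulAction G Ω] [Finite G] [Nonempty Ω] [Finite ι] {x : ι → G} {r : ι → ℕ}
    (h2 : (2 : F) = 0) (hq : 3 ≤ Nat.card F) (hE : Env G Ω N) (e : N ≃* PSp 2 F) (hx : PF x r) (hcov : Cov Ω x)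
    (i0 : ι) (hi0 : ¬ IndPsi e (x i0)) (hlin : ∀ j, j ≠ i0 → x j ∈ N)
    (hM2O : ∀ (κ : Type) (_ : Finite κ) (y : κ → G) (s : κ → ℕ), PF y s → Cov Ω y → (∀ i, y i ∈ N) →
      (∀ i, s i ≠ 2) → False) : False := by
  have hchar : CharP F 2 := CharTwo.of_one_ne_zero_of_two_eq_zero one_ne_zero h2
  have hq4 := card_four h2 hq
  obtain ⟨ε, δ, hδ, hxδ, -⟩ := exists_delta h2 e hE.norm hi0
  exact gr_two hq4 hE ε hx hcov i0 hδ hxδ hlin
    (fun z hz1 hzo hI => Cfsg.Agent.H195.RC.irr_not_cent hq4 hz1 hzo hI hδ) hM2O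

end Cfsg.Agent.H332.RC
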