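import Cfsg.Agent.H332.RC.GrTr

/-!
# S3510, row D, box GR: the split torus (helper332)

* `split` : an element of odd order fixed by a graph involution which leaves a nondegenerate plane invariant is in a
  split torus `k tor k⁻¹`, regular
* `cent_tor` : the elements commuting with it are diagonal
-/

set_option autoImplicit false
set_option linter.unusedSectionVars false

namespace Cfsg.Agent.H332.RC

open Cfsg Matrix
open Cfsg.Agent.H319.FC Cfsg.Agent.H193.FC
open Cfsg.Agent.ClassicalGeometry.SympBasic Cfsg.Agent.ClassicalGeometry.SympAutSemi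
open Cfsg.Agent.ClassicalGeometry.Sp4Graph Cfsg.Agent.ClassicalGeometry.Sp4GraphAut

universe u

variable {F : Type u} [Field F] [CharP F 2]

/-- regular pairs -/
structure Reg (a b : Fˣ) : Prop where
  h1 : (a : F) ≠ (a⁻¹ : Fˣ)
  h2 : (b : F) ≠ (b⁻¹ : Fˣ)
  h3 : (a : F) ≠ b
  h4 : (a : F) ≠ (b⁻¹ : Fˣ)

theorem conj_fix {z k s : Sp4 F} (h : z = k * s * k⁻¹) {v : V4 F} (hv : rho 2 F s v = v) :
    rho 2 F z (rho 2 F k v) = rho 2 F k v := by
  rw [← rho_mul_apply, h, inv_mul_cancel_right, rho_mul_apply, hv]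

theorem rho_inj_zero {k : Sp4 F} {v : V4 F} (h : rho 2 F k v = 0) : v = 0 := by
  apply (rho 2 F k).injective
  rw [h, rho_zero_vec]

/-- **Splitting.** -/
theorem split [Finite F] (hq : 4 ≤ Nat.card F) {δ : MulAut (Sp4 F)} (hδ : δ ∉ (conjHom 2 F).range)
    (h2 : ∀ X, δ (δ X) = X) {z : Sp4 F} (hz : δ z = z) (hz1 : z ≠ 1) (ho : Odd (orderOf z)) {x y : V4 F}
    (hxy : sympForm 2 F x y = 1) (hzx : rho 2 F z x ∈ Submodule.span F {x, y})
    (hzy : rho 2 F z y ∈ Submodule.span F {x, y}) :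
    ∃ (k : Sp4 F) (a b : Fˣ), z = k * tor a b * k⁻¹ ∧ Reg a b := by
  obtain ⟨k, p, hk⟩ := exists_iota hxy hzx hzy
  obtain ⟨φ, hφ, htr⟩ := trace_rel hq hδ h2
  have hfix := fun {v : V4 F} => no_fix hq hδ hz hz1 ho (v := v)
  have hn : (iota p) ^ orderOf z = 1 := by
    have h3 : iota p = k⁻¹ * z * k := by rw [hk]; group
    rw [h3]
    have h4 : (k⁻¹ * z * k) ^ orderOf z = k⁻¹ * z ^ orderOf z * k := by
      have := conj_pow (i := orderOf z) (a := k⁻¹) (b := z)
      rwa [inv_inv] at this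
    rw [h4, pow_orderOf_eq_one, mul_one, inv_mul_cancel]
  have hpn : p ^ orderOf z = 1 := by
    apply iota_injective
    rw [map_pow, hn, map_one]
  have ho1 : Odd (orderOf p.1) := Odd.of_dvd_nat ho (orderOf_dvd_of_pow_eq_one (congrArg Prod.fst hpn))
  have ho2 : Odd (orderOf p.2) := Odd.of_dvd_nat ho (orderOf_dvd_of_pow_eq_one (congrArg Prod.snd hpn))
  have he1 : e1 F ≠ 0 := e1_ne
  have he2 : e2 F ≠ 0 := e2_ne
  have hp1 : p.1 ≠ 1 := by
    intro h3
    have h4 : rho 2 F (iota p) (e1 F) = e1 F := by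
      rw [iota_apply, h3]
      funext i
      rcases i with i | i <;> fin_cases i <;> simp [e1, e2, f1, f2]
    exact he1 (rho_inj_zero (hfix (conj_fix hk h4)))
  have hp2 : p.2 ≠ 1 := by
    intro h3
    have h4 : rho 2 F (iota p) (e2 F) = e2 F := by
      rw [iota_apply, h3]
      funext i
      rcases i with i | i <;> fin_cases i <;> simp [e1, e2, f1, f2]
    exact he2 (rho_inj_zero (hfix (conj_fix hk h4)))
  have ht1 := trace_ne_zero hp1 ho1
  have ht2 := trace_ne_zero hp2 ho2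
  have hne : p.1.1.trace ≠ p.2.1.trace := by
    intro h3
    refine no_quad hq hδ hz hz1 ho ⟨p.1.1.trace, fun v => ?_⟩
    obtain ⟨v, rfl⟩ := (rho 2 F k).surjective v
    have h4 : ∀ u, rho 2 F z (rho 2 F k u) = rho 2 F k (rho 2 F (iota p) u) := by
      intro u
      rw [← rho_mul_apply, hk, inv_mul_cancel_right, rho_mul_apply]
    rw [h4, h4, ← rho_smul, ← rho_add, ← rho_add, iota_quad h3, rho_zero_vec]
  have hrel : p.1.1.trace + p.2.1.trace = φ (p.1.1.trace * p.2.1.trace) := by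
    have h3 := htr z hz
    rw [hk, map_mul (graphEquiv F), map_mul (graphEquiv F), map_inv (graphEquiv F), trace_conj, trace_conj,
      trace_graph_iota, trace_iota] at h3
    exact h3
  obtain ⟨x1, hx1⟩ := exists_root hφ hne hrel
  obtain ⟨x2, hx2⟩ := exists_root hφ hne.symm (by rw [add_comm, mul_comm]; exact hrel)
  obtain ⟨k1, a, ha⟩ := exists_dgl p.1 hx1 ht1
  obtain ⟨k2, b, hb⟩ := exists_dgl p.2 hx2 ht2
  have hta : p.1.1.trace = a + (a⁻¹ : Fˣ) := by
    rw [← trace_dgl, ha]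
    change (k1.1 * (dgl a).1 * (k1⁻¹).1).trace = _
    rw [Matrix.trace_mul_cycle]
    have : (k1⁻¹).1 * k1.1 = 1 := congrArg (fun g : SL2 F => g.1) (inv_mul_cancel k1)
    rw [this, one_mul]
  have htb : p.2.1.trace = b + (b⁻¹ : Fˣ) := by
    rw [← trace_dgl, hb]
    change (k2.1 * (dgl b).1 * (k2⁻¹).1).trace = _
    rw [Matrix.trace_mul_cycle]
    have : (k2⁻¹).1 * k2.1 = 1 := congrArg (fun g : SL2 F => g.1) (inv_mul_cancel k2)
    rw [this, one_mul]
  rw [hta] at ht1 hne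
  rw [htb] at ht2 hne
  refine ⟨k * iota (k1, k2), a, b, ?_, ⟨?_, ?_, ?_, ?_⟩⟩
  · rw [hk]
    have h3 : iota p = iota (k1, k2) * tor a b * (iota (k1, k2))⁻¹ := by
      rw [tor, ← map_mul, ← map_inv, ← map_mul]
      congr 1
      exact Prod.ext ha hb
    rw [h3]
    group
  · intro h3
    apply ht1
    rw [← h3]
    exact CharTwo.add_self_eq_zero _
  · intro h3
    apply ht2
    rw [← h3]
    exact CharTwo.add_self_eq_zero _
  · intro h3
    apply hne
    rw [Units.ext h3]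
  · intro h3
    apply hne
    have h4 : a = b⁻¹ := Units.ext h3
    rw [h4, inv_inv, add_comm]

/-- **The centraliser of a regular element of the torus.** -/
theorem cent_tor {a b : Fˣ} (h : Reg a b) {X : Sp4 F} (hX : X * tor a b = tor a b * X) :
    ∃ a' b' : Fˣ, X = tor a' b' := by
  have hai : (a : F) * ((a⁻¹ : Fˣ) : F) = 1 := by rw [← Units.val_mul, mul_inv_cancel, Units.val_one]
  have hbi : (b : F) * ((b⁻¹ : Fˣ) : F) = 1 := by rw [← Units.val_mul, mul_inv_cancel, Units.val_one]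
  have hc : ∀ v, rho 2 F X (rho 2 F (tor a b) v) = rho 2 F (tor a b) (rho 2 F X v) := by
    intro v
    rw [← rho_mul_apply, hX, rho_mul_apply]
  have hcoord : ∀ (c : F) (v : V4 F), rho 2 F (tor a b) v = c • v →
      ((a : F) - c) * (rho 2 F X v) (.inl 0) = 0 ∧ ((b : F) - c) * (rho 2 F X v) (.inl 1) = 0 ∧
      ((((a⁻¹ : Fˣ) : F)) - c) * (rho 2 F X v) (.inr 0) = 0 ∧ ((((b⁻¹ : Fˣ) : F)) - c) * (rho 2 F X v) (.inr 1) = 0 := by
    intro c v hv
    have h1 := hc v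
    rw [hv, rho_smul, tor_apply] at h1
    have g1 := congrFun h1 (.inl 0)
    have g2 := congrFun h1 (.inl 1)
    have g3 := congrFun h1 (.inr 0)
    have g4 := congrFun h1 (.inr 1)
    simp [e1, e2, f1, f2, -mul_eq_mul_right_iff, -mul_eq_mul_left_iff] at g1 g2 g3 g4
    refine ⟨?_, ?_, ?_, ?_⟩
    · linear_combination -g1
    · linear_combination -g2
    · rw [Units.val_inv_eq_inv_val]; linear_combination -g3
    · rw [Units.val_inv_eq_inv_val]; linear_combination -g4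
  have t1 : rho 2 F (tor a b) (e1 F) = (a : F) • e1 F := by
    rw [tor_apply]; funext i; rcases i with i | i <;> fin_cases i <;> simp [e1, e2, f1, f2]
  have t2 : rho 2 F (tor a b) (e2 F) = (b : F) • e2 F := by
    rw [tor_apply]; funext i; rcases i with i | i <;> fin_cases i <;> simp [e1, e2, f1, f2]
  have t3 : rho 2 F (tor a b) (f1 F) = ((a⁻¹ : Fˣ) : F) • f1 F := by
    rw [tor_apply]; funext i; rcases i with i | i <;> fin_cases i <;> simp [e1, e2, f1, f2]
  have t4 : rho 2 F (tor a b) (f2 F) = ((b⁻¹ : Fˣ) : F) • f2 F := by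
    rw [tor_apply]; funext i; rcases i with i | i <;> fin_cases i <;> simp [e1, e2, f1, f2]
  have z0 : ∀ {c d : F} {t : F}, (c - d) * t = 0 → c ≠ d → t = 0 := by
    intro c d t h1 h2
    exact (mul_eq_zero.1 h1).resolve_left (sub_ne_zero.2 h2)
  have hab' : ((a⁻¹ : Fˣ) : F) ≠ b := by
    intro h0
    apply h.h4
    have : a⁻¹ = b := Units.ext h0
    rw [← this, inv_inv]
  have haib : ((a⁻¹ : Fˣ) : F) ≠ ((b⁻¹ : Fˣ) : F) := by
    intro h0
    apply h.h3
    have : a⁻¹ = b⁻¹ := Units.ext h0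
    rw [inv_inj.1 this]
  obtain ⟨-, p2, p3, p4⟩ := hcoord _ _ t1
  obtain ⟨q1, -, q3, q4⟩ := hcoord _ _ t2
  obtain ⟨r1, r2, -, r4⟩ := hcoord _ _ t3
  obtain ⟨s1, s2, s3, -⟩ := hcoord _ _ t4
  have u1 : rho 2 F X (e1 F) = (rho 2 F X (e1 F) (.inl 0)) • e1 F := by
    conv_lhs => rw [decomp4 (rho 2 F X (e1 F)), z0 p2 h.h3.symm, z0 p3 h.h1.symm, z0 p4 h.h4.symm]
    simp
  have u2 : rho 2 F X (e2 F) = (rho 2 F X (e2 F) (.inl 1)) • e2 F := by
    conv_lhs => rw [decomp4 (rho 2 F X (e2 F)), z0 q1 h.h3, z0 q3 hab', z0 q4 h.h2.symm]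
    simp
  have u3 : rho 2 F X (f1 F) = (rho 2 F X (f1 F) (.inr 0)) • f1 F := by
    conv_lhs => rw [decomp4 (rho 2 F X (f1 F)), z0 r1 h.h1, z0 r2 hab'.symm, z0 r4 haib.symm]
    simp
  have u4 : rho 2 F X (f2 F) = (rho 2 F X (f2 F) (.inr 1)) • f2 F := by
    conv_lhs => rw [decomp4 (rho 2 F X (f2 F)), z0 s1 h.h4, z0 s2 h.h2, z0 s3 haib]
    simp
  obtain ⟨a1, ha1⟩ : ∃ t, t = rho 2 F X (e1 F) (.inl 0) := ⟨_, rfl⟩
  obtain ⟨b1, hb1⟩ : ∃ t, t = rho 2 F X (e2 F) (.inl 1) := ⟨_, rfl⟩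
  obtain ⟨a2, ha2⟩ : ∃ t, t = rho 2 F X (f1 F) (.inr 0) := ⟨_, rfl⟩
  obtain ⟨b2, hb2⟩ : ∃ t, t = rho 2 F X (f2 F) (.inr 1) := ⟨_, rfl⟩
  rw [← ha1] at u1
  rw [← hb1] at u2
  rw [← ha2] at u3
  rw [← hb2] at u4
  have v3 : a1 * a2 = 1 := by
    have h1 := sympForm_rho X (e1 F) (f1 F)
    rw [u1, u3, sympForm_smul_left, sympForm_smul_right, form_e1_f1, mul_one] at h1
    exact h1
  have v4 : b1 * b2 = 1 := by
    have h1 := sympForm_rho X (e2 F) (f2 F)
    rw [u2, u4, sympForm_smul_left, sympForm_smul_right, form_e2_f2, mul_one] at h1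
    exact h1
  have i3 : a1⁻¹ = a2 := inv_eq_of_mul_eq_one_right v3
  have i4 : b1⁻¹ = b2 := inv_eq_of_mul_eq_one_right v4
  refine ⟨Units.mk0 a1 (left_ne_zero_of_mul_eq_one v3), Units.mk0 b1 (left_ne_zero_of_mul_eq_one v4), ?_⟩
  refine sp_ext4 (v := e1 F) (w := e2 F) (v' := f1 F) (w' := f2 F) form_e1_e2 form_e1_f1
    form_e1_f2 form_e2_f1 form_e2_f2 form_f1_f2 ?_ ?_ ?_ ?_
  · rw [u1, tor_apply]; funext i; rcases i with i | i <;> fin_cases i <;> simp [e1, e2, f1, f2]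
  · rw [u2, tor_apply]; funext i; rcases i with i | i <;> fin_cases i <;> simp [e1, e2, f1, f2]
  · rw [u3, tor_apply]; funext i; rcases i with i | i <;> fin_cases i <;> simp [e1, e2, f1, f2, i3]
  · rw [u4, tor_apply]; funext i; rcases i with i | i <;> fin_cases i <;> simp [e1, e2, f1, f2, i4]

theorem dgl_mul (a b : Fˣ) : (dgl (a * b) : SL2 F) = dgl a * dgl b := by
  apply Subtype.ext
  change (dgl (a * b)).1 = (dgl a).1 * (dgl b).1
  ext i j
  fin_cases i <;> fin_cases j <;> simp [dgl, Matrix.mul_apply, Fin.sum_univ_two, mul_comm]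

theorem tor_mul (a b a' b' : Fˣ) : (tor (a * a') (b * b') : Sp4 F) = tor a b * tor a' b' := by
  rw [tor, tor, tor, ← map_mul, dgl_mul, dgl_mul]
  rfl

theorem tor_comm (a b a' b' : Fˣ) : (tor a b * tor a' b' : Sp4 F) = tor a' b' * tor a b := by
  rw [← tor_mul, ← tor_mul, mul_comm a, mul_comm b]

theorem tor_one : (tor 1 1 : Sp4 F) = 1 := by
  have h := tor_mul (F := F) 1 1 1 1
  rw [mul_one] at h
  exact (left_eq_mul.1 h)

theorem tor_pow (a b : Fˣ) (n : ℕ) : (tor a b : Sp4 F) ^ n = tor (a ^ n) (b ^ n) := by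
  induction n with
  | zero => rw [pow_zero, pow_zero, pow_zero, tor_one]
  | succ n ih => rw [pow_succ, ih, pow_succ, pow_succ, tor_mul]

theorem tor_e1 (a b : Fˣ) : rho 2 F (tor a b) (e1 F) = (a : F) • e1 F := by
  rw [tor_apply]; funext i; rcases i with i | i <;> fin_cases i <;> simp [e1, e2, f1, f2]

theorem tor_e2 (a b : Fˣ) : rho 2 F (tor a b) (e2 F) = (b : F) • e2 F := by
  rw [tor_apply]; funext i; rcases i with i | i <;> fin_cases i <;> simp [e1, e2, f1, f2]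

end Cfsg.Agent.H332.RC
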