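import Cfsg.Agent.H198.TcSc

/-!
# S3510, triality type iii, `k = 2`: special lines of a twisted composition fixed by an automorphism of order `p` (helper332)

`Fr Q m e b f` : `⟨e, b⟩` is a special line (all products vanish), `(e, f)` a hyperbolic pair, `f ⊥ b`, `(e ⋄ f) ⋄ b = b`.

* `Fr.F1` : `(b ⋄ u) ⋄ e = (b, u) e - (e, u) b`;
* `tri_sieg` : the Siegel element of a totally singular pair and its two companions;
* `Fr.UL` : the vectors killed by `e ⋄`, `⋄ e`, `b ⋄` are in `⟨e, b⟩` (dimension eight);
* `exists_frame` : an automorphism `g ≠ 1`, `g ^ p = 1`, `p` the characteristic, fixes `e` and stabilises `⟨e, b⟩` for a frame.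
-/

set_option autoImplicit false

namespace Cfsg.Agent.H332.RC

open Module QuadraticMap Cfsg.Agent.LieClassical.OrthCore Cfsg.Agent.LieClassical.OrthTrans
  Cfsg.Agent.H198.TwComp

section tri

variable {F V : Type*} [Field F] [AddCommGroup V] [Module F V] {Q : QuadraticForm F V} {σ : F ≃+* F} {m : V → V → V}

/-- See the module docstring. -/
structure Fr (Q : QuadraticForm F V) (m : V → V → V) (e b f : V) : Prop where
  hyp : Hyp Q e f
  Qb : Q b = 0
  b0 : b ≠ 0
  eb : polar Q e b = 0
  fb : polar Q f b = 0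
  ee : m e e = 0
  meb : m e b = 0
  mbe : m b e = 0
  mbb : m b b = 0
  fix : m (m e f) b = b

theorem m_ea (h : TC Q σ m) {e f : V} (k : Hyp Q e f) (ee : m e e = 0) : m e (m e f) = e := by
  have h1 := h.lin2 e e f
  rw [ee, h.zero_right, add_zero, k.pair, map_one, one_smul] at h1
  exact h1

theorem Fr.F1 (h : TC Q σ m) {e b f : V} (k : Fr Q m e b f) (u : V) :
    m (m b u) e = polar Q b u • e - polar Q e u • b := by
  have ea := m_ea h k.hyp k.ee
  have e1 := h.lin2 e b u
  rw [k.mbe, h.zero_right, add_zero] at e1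
  have e2 := h.lin2 (m b u) e (m e f)
  rw [ea, e1, h.smul_right, RingEquiv.apply_symm_apply, k.fix, h.cyc, k.fix, RingEquiv.symm_apply_apply] at e2
  rw [← e2]
  abel

theorem Fr.F2 (h : TC Q σ m) {e b f : V} (k : Fr Q m e b f) (w : V) :
    m b (m w e) = polar Q e w • b - polar Q b w • e := by
  -- `b ⋄ (w ⋄ e) = - e ⋄ (w ⋄ b) = - (b ⋄ w) ⋄ e`
  have e1 := h.lin2 b w e
  rw [polar_comm Q b e, k.eb, map_zero, zero_smul] at e1
  -- `(b ⋄ w) ⋄ e = ((a ⋄ b) ⋄ w) ⋄ e = - ((w ⋄ b) ⋄ a) ⋄ e`, `((w ⋄ b) ⋄ a) ⋄ e = - (e ⋄ a) ⋄ (w ⋄ b)`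
  have e2 := h.lin1 (m e f) b w
  rw [k.fix] at e2
  have e3 := congrArg (fun z => m z e) e2
  beta_reduce at e3
  rw [h.add_left, h.smul_left, k.mbe, smul_zero] at e3
  have e4 := h.lin1 (m w b) (m e f) e
  rw [m_ea h k.hyp k.ee] at e4
  have e5 : polar Q (m w b) e = 0 := by
    rw [h.assoc, k.mbe, polar_zero_right, map_zero]
  rw [e5, map_zero, zero_smul] at e4
  have e6 := k.F1 h w
  have e7 : m (m b w) e = m e (m w b) := by
    rw [eq_neg_of_add_eq_zero_left e3, eq_neg_of_add_eq_zero_left e4, neg_neg]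
  rw [eq_neg_of_add_eq_zero_left e1, ← e7, e6]
  abel

/-- the companions of a Siegel element -/
theorem tri_sieg (h : TC Q σ m) {e b : V} (he : Q e = 0) (hb : Q b = 0) (eb : polar Q e b = 0) (u w : V) :
    m u w + polar Q e (m u w) • b - polar Q b (m u w) • e = m (u - m (m b u) e) (w + m b (m w e)) := by
  have e1 := h.lin1 (m b u) e w
  have e2 := h.lin2 (m w e) b u
  have e3 : polar Q (m b u) w = σ.symm (polar Q b (m u w)) := h.assoc _ _ _
  have e4 : polar Q (m w e) u = σ (polar Q (m u w) e) := h.cyc _ _ _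
  rw [e3, RingEquiv.apply_symm_apply] at e1
  rw [e4, RingEquiv.symm_apply_apply, polar_comm Q (m u w) e] at e2
  -- the last term
  have e5 : m (m (m b u) e) (m b (m w e)) = 0 := by
    have h1 := h.lin2 (m (m b u) e) b (m w e)
    have h2 := h.lin2 b (m b u) e
    have h3 : m (m b u) b = 0 := by rw [h.left, hb, map_zero, zero_smul]
    rw [h3, h.zero_right, add_zero, polar_comm Q b e, eb, map_zero, zero_smul] at h2
    rw [h2, h.zero_right, add_zero] at h1
    have h4 : polar Q (m (m b u) e) (m w e) = 0 := by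
      have n1 : ∀ x : V, Q (m x e) = 0 := fun x => by rw [h.norm, he, map_zero, mul_zero]
      rw [QuadraticMap.polar, ← h.add_left, n1, n1, n1, sub_zero, sub_zero]
    rw [h1, h4, map_zero, zero_smul]
  have e6 : ∀ x y z t : V, m (x - y) (z + t) = m x z + m x t - m y z - m y t := by
    intro x y z t
    rw [sub_eq_add_neg, h.add_left, h.neg_left, h.add_right, h.add_right]
    abel
  rw [e6, e5, sub_zero]
  have e7 : polar Q b (m u w) • e = m (m (m b u) e) w + m (m w e) (m b u) := e1.symm
  have e8 : polar Q e (m u w) • b = m (m w e) (m b u) + m u (m b (m w e)) := e2.symm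
  rw [e7, e8]
  abel

/-- `ker (⋄ e)` is totally singular -/
theorem polar_kerR (h : TC Q σ m) {e c d : V} (e0 : e ≠ 0) (hc : m c e = 0) (hd : m d e = 0) : polar Q c d = 0 := by
  have h1 := h.lin1 c e d
  rw [hc, hd, h.zero_left, h.zero_left, add_zero] at h1
  have h2 := (smul_eq_zero.1 h1.symm).resolve_right e0
  exact (map_eq_zero σ).1 h2

theorem Q_kerR (h : TC Q σ m) {e c : V} (e0 : e ≠ 0) (hc : m c e = 0) : Q c = 0 := by
  have h1 := h.left c e
  rw [hc, h.zero_left] at h1
  have h2 := (smul_eq_zero.1 h1.symm).resolve_right e0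
  exact (map_eq_zero σ).1 h2

/-- products of vectors of `U_e` are multiples of `e` -/
theorem mul_UU (h : TC Q σ m) {e f c d : V} (k : Hyp Q e f) (hd : m e d = 0) (hc : m c e = 0) :
    m d c = σ (polar Q (m f d) c) • e := by
  have h1 : m (m f d) e = d := by
    have h2 := h.lin1 f d e
    rw [hd, h.zero_left, add_zero, k.pair', map_one, one_smul] at h2
    exact h2
  have h2 := h.lin1 (m f d) e c
  rw [h1, hc, h.zero_left, add_zero] at h2
  exact h2

/-- an element of order three without fixed points: semilinear Hilbert 90 -/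
theorem hilbert90 (hQ : Nondeg Q) {σ : F ≃+* F} (h3 : ∀ k, σ (σ (σ k)) = k) (hne : σ ≠ RingEquiv.refl F)
    {A : V → V} (hadd : ∀ x y, A (x + y) = A x + A y) {c : V} (c0 : c ≠ 0)
    (hsm : ∀ (t : F) (x : V), A (t • x) = σ t • A x) (hA : A (A (A c)) = c) :
    ∃ t : F, t • c + σ t • A c + σ (σ t) • A (A c) ≠ 0 ∧
      A (t • c + σ t • A c + σ (σ t) • A (A c)) = t • c + σ t • A c + σ (σ t) • A (A c) := by
  have hfix : ∀ t : F, A (t • c + σ t • A c + σ (σ t) • A (A c)) = t • c + σ t • A c + σ (σ t) • A (A c) := by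
    intro t
    rw [hadd, hadd, hsm, hsm, hsm, hA, h3]
    abel
  by_contra hno
  push Not at hno
  have hz : ∀ t : F, t • c + σ t • A c + σ (σ t) • A (A c) = 0 := by
    intro t
    by_contra ht
    exact hno t ht (hfix t)
  obtain ⟨y, hy⟩ := hQ.exists_polar_ne c0
  have hlin := linearIndependent_monoidHom F F
  let f0 : F →* F := MonoidHom.id F
  let f1 : F →* F := (σ : F →* F)
  let f2 : F →* F := ((σ : F ≃+* F) : F →* F).comp (σ : F →* F)
  have h01 : f0 ≠ f1 := by
    intro hh
    apply hne
    ext t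
    have := congrArg (fun z : F →* F => z t) hh
    exact this.symm
  have h12 : f1 ≠ f2 := by
    intro hh
    apply hne
    ext t
    have := congrArg (fun z : F →* F => z (σ (σ t))) hh
    have h4 : σ (σ (σ t)) = σ (σ (σ (σ t))) := this
    rw [h3] at h4
    exact h4.symm
  have h02 : f0 ≠ f2 := by
    intro hh
    apply hne
    ext t
    have := congrArg (fun z : F →* F => z (σ t)) hh
    have h4 : σ t = σ (σ (σ t)) := this
    rw [h3] at h4
    exact h4
  have hli : LinearIndependent F (fun i : Fin 3 => ((![f0, f1, f2] i : F →* F) : F → F)) := by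
    have hinj : Function.Injective (![f0, f1, f2] : Fin 3 → (F →* F)) := by
      intro i j hij
      fin_cases i <;> fin_cases j <;> first | rfl | (exfalso; simp at hij; first | exact h01 hij | exact h02 hij | exact h12 hij | exact h01 hij.symm | exact h02 hij.symm | exact h12 hij.symm)
    exact hlin.comp _ hinj
  rw [Fintype.linearIndependent_iff] at hli
  have h5 := hli ![polar Q c y, polar Q (A c) y, polar Q (A (A c)) y] (by
    funext t
    rw [Fin.sum_univ_three]
    have h6 := congrArg (fun z => polar Q z y) (hz t)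
    beta_reduce at h6
    rw [polar_add_left, polar_add_left, polar_smul_left, polar_smul_left, polar_smul_left, polar_zero_left] at h6
    simp only [smul_eq_mul] at h6
    show polar Q c y * t + polar Q (A c) y * σ t + polar Q (A (A c)) y * σ (σ t) = 0
    linear_combination h6) 0
  exact hy h5

/-- a totally isotropic subspace has at most half the dimension -/
theorem two_mul_finrank_le [FiniteDimensional F V] (hQ : Nondeg Q) {W : Submodule F V}
    (hW : ∀ x ∈ W, ∀ y ∈ W, polar Q x y = 0) : 2 * finrank F W ≤ finrank F V := by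
  have hB : (polarBilin Q).Nondegenerate := by
    refine ⟨fun x hx => hQ x hx, fun y hy => hQ y fun x => ?_⟩
    rw [polar_comm]
    exact hy x
  have h1 := LinearMap.BilinForm.finrank_orthogonal hB W
  have h2 : W ≤ LinearMap.BilinForm.orthogonal (polarBilin Q) W := by
    intro y hy x hx
    exact hW x hx y hy
  have h3 := Submodule.finrank_mono h2
  have h4 := Submodule.finrank_le W
  omega

/-- `ker (⋄ e)` -/
def kerR (h : TC Q σ m) (e : V) : Submodule F V where
  carrier := {v | m v e = 0}
  add_mem' := fun {x y} hx hy => by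
    change m (x + y) e = 0
    rw [h.add_left, show m x e = 0 from hx, show m y e = 0 from hy, add_zero]
  zero_mem' := h.zero_left e
  smul_mem' := fun c x hx => by
    change m (c • x) e = 0
    rw [h.smul_left, show m x e = 0 from hx, smul_zero]

/-- `ker (e ⋄)` -/
def kerL (h : TC Q σ m) (e : V) : Submodule F V where
  carrier := {v | m e v = 0}
  add_mem' := fun {x y} hx hy => by
    change m e (x + y) = 0
    rw [h.add_right, show m e x = 0 from hx, show m e y = 0 from hy, add_zero]
  zero_mem' := h.zero_right e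
  smul_mem' := fun c x hx => by
    change m e (c • x) = 0
    rw [h.smul_right, show m e x = 0 from hx, smul_zero]

/-- vectors killed by `e ⋄`, `⋄ e`, `b ⋄` -/
theorem Fr.UL [FiniteDimensional F V] (h : TC Q σ m) (hQ : Nondeg Q) (hV : finrank F V = 8) {e b f : V}
    (k : Fr Q m e b f) {v : V} (h1 : m e v = 0) (h2 : m v e = 0) (h3 : m b v = 0) :
    ∃ α β : F, v = α • e + β • b := by
  have e0 : e ≠ 0 := k.hyp.left_ne
  set Z := kerR h e with hZ
  set U := Z ⊓ kerL h e with hU
  set Z2 := U ⊓ kerL h b with hZ2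
  have z4 : finrank F Z ≤ 4 := by
    have := two_mul_finrank_le hQ (W := Z) fun x hx y hy => polar_kerR h e0 hx hy
    omega
  have hUZ : U < Z := by
    refine lt_of_le_of_ne inf_le_left fun hUZ => ?_
    have h4 : m e f ∈ Z := by
      change m (m e f) e = 0
      rw [h.left, k.hyp.left, map_zero, zero_smul]
    rw [← hUZ] at h4
    have h5 : m e (m e f) = 0 := h4.2
    rw [m_ea h k.hyp k.ee] at h5
    exact e0 h5
  have hZU : Z2 < U := by
    refine lt_of_le_of_ne inf_le_left fun hZU => ?_
    obtain ⟨y, hy⟩ := hQ.exists_polar_eq k.b0 1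
    set y' := y - polar Q e y • f with hy'
    have p1 : polar Q e y' = 0 := by
      rw [hy', polar_sub_right, polar_smul_right, k.hyp.pair, smul_eq_mul, mul_one, sub_self]
    have p2 : polar Q b y' = 1 := by
      rw [hy', polar_sub_right, polar_smul_right, polar_comm Q b f, k.fb, smul_zero, sub_zero, hy]
    have h4 : m y' e ∈ U := by
      refine ⟨?_, ?_⟩
      · change m (m y' e) e = 0
        have := h.lin1 y' e e
        rwa [k.ee, h.zero_left, add_zero, polar_comm Q y' e, p1, map_zero, zero_smul] at this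
      · change m e (m y' e) = 0
        rw [h.right, k.hyp.left, map_zero, zero_smul]
    rw [← hZU] at h4
    have h5 : m b (m y' e) = 0 := h4.2
    rw [k.F2 h, p1, p2, zero_smul, one_smul, zero_sub, neg_eq_zero] at h5
    exact e0 h5
  have f1 := Submodule.finrank_lt_finrank_of_lt hUZ
  have f2 := Submodule.finrank_lt_finrank_of_lt hZU
  have hli : LinearIndependent F ![e, b] := by
    rw [LinearIndependent.pair_iff]
    intro s t hst
    have e1 := congrArg (fun z => polar Q f z) hst
    beta_reduce at e1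
    rw [polar_add_right, polar_smul_right, polar_smul_right, k.fb, k.hyp.pair', smul_zero, add_zero, polar_zero_right,
      smul_eq_mul, mul_one] at e1
    rw [e1, zero_smul, zero_add] at hst
    exact ⟨e1, (smul_eq_zero.1 hst).resolve_right k.b0⟩
  have hL : Submodule.span F (Set.range ![e, b]) ≤ Z2 := by
    rw [Submodule.span_le]
    rintro _ ⟨i, rfl⟩
    fin_cases i
    · exact ⟨⟨k.ee, k.ee⟩, k.mbe⟩
    · exact ⟨⟨k.mbe, k.meb⟩, k.mbb⟩
  have hL2 : finrank F (Submodule.span F (Set.range ![e, b])) = 2 := by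
    rw [finrank_span_eq_card hli, Fintype.card_fin]
  have hE : Submodule.span F (Set.range ![e, b]) = Z2 :=
    Submodule.eq_of_le_of_finrank_le hL (by omega)
  have hv : v ∈ Z2 := ⟨⟨h2, h1⟩, h3⟩
  rw [← hE] at hv
  rw [Matrix.range_cons, Matrix.range_cons, Matrix.range_empty, Set.union_empty, ← Set.insert_eq,
    Submodule.mem_span_pair] at hv
  obtain ⟨α, β, hv⟩ := hv
  exact ⟨α, β, hv.symm⟩

/-- products of vectors of `L = ⟨e, b⟩` and `L^⊥` are killed by `e ⋄`, `⋄ e`, `b ⋄` -/
theorem Fr.LP [FiniteDimensional F V] (h : TC Q σ m) (hQ : Nondeg Q) (hV : finrank F V = 8) {e b f : V}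
    (k : Fr Q m e b f) {v : V} (hev : polar Q e v = 0) (hbv : polar Q b v = 0) :
    (∃ α β : F, m e v = α • e + β • b) ∧ (∃ α β : F, m v e = α • e + β • b) ∧
      (∃ α β : F, m b v = α • e + β • b) := by
  have hve : polar Q v e = 0 := by rw [polar_comm]; exact hev
  have hvb : polar Q v b = 0 := by rw [polar_comm]; exact hbv
  have a1 : m e (m e v) = 0 := by
    have := h.lin2 e e v
    rwa [k.ee, h.zero_right, add_zero, hev, map_zero, zero_smul] at this
  have a2 : m (m e v) e = 0 := by rw [h.left, k.hyp.left, map_zero, zero_smul]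
  have a3 : m b (m e v) = 0 := by
    have := h.lin2 b e v
    rwa [k.meb, h.zero_right, add_zero, hbv, map_zero, zero_smul] at this
  have b1 : m e (m v e) = 0 := by rw [h.right, k.hyp.left, map_zero, zero_smul]
  have b2 : m (m v e) e = 0 := by
    have := h.lin1 v e e
    rwa [k.ee, h.zero_left, add_zero, hve, map_zero, zero_smul] at this
  have b3 : m b (m v e) = 0 := by
    rw [k.F2 h, hev, hbv, zero_smul, zero_smul, sub_zero]
  have c1 : m e (m b v) = 0 := by
    have := h.lin2 e b v
    rwa [k.mbe, h.zero_right, add_zero, hev, map_zero, zero_smul] at this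
  have c2 : m (m b v) e = 0 := by
    rw [k.F1 h, hev, hbv, zero_smul, zero_smul, sub_zero]
  have c3 : m b (m b v) = 0 := by
    have := h.lin2 b b v
    rwa [k.mbb, h.zero_right, add_zero, hbv, map_zero, zero_smul] at this
  exact ⟨k.UL h hQ hV a1 a2 a3, k.UL h hQ hV b1 b2 b3, k.UL h hQ hV c1 c2 c3⟩

/-- an automorphism trivial on `L` is trivial on `L^⊥ / L` -/
theorem Fr.quot [FiniteDimensional F V] (h : TC Q σ m) (hQ : Nondeg Q) (hV : finrank F V = 8) {e b f : V}
    (k : Fr Q m e b f) {g : V ≃ₗ[F] V} (gm : ∀ u w, g (m u w) = m (g u) (g w)) (ge : g e = e) (gb : g b = b)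
    {v : V} (hev : polar Q e v = 0) (hbv : polar Q b v = 0) : ∃ α β : F, g v = v + (α • e + β • b) := by
  obtain ⟨⟨α₁, β₁, h1⟩, ⟨α₂, β₂, h2⟩, ⟨α₃, β₃, h3⟩⟩ := k.LP h hQ hV hev hbv
  have gL : ∀ α β : F, g (α • e + β • b) = α • e + β • b := by
    intro α β
    rw [map_add, map_smul, map_smul, ge, gb]
  have e1 : m e (g v) = m e v := by
    have := gm e v
    rw [h1, gL, ge] at this
    rw [← this, h1]
  have e2 : m (g v) e = m v e := by
    have := gm v e
    rw [h2, gL, ge] at this
    rw [← this, h2]
  have e3 : m b (g v) = m b v := by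
    have := gm b v
    rw [h3, gL, gb] at this
    rw [← this, h3]
  have hs : ∀ x y z : V, m x y = m x z → m x (y - z) = 0 := by
    intro x y z hxyz
    rw [sub_eq_add_neg, h.add_right, h.neg_right, hxyz, add_neg_cancel]
  have hs' : ∀ x y z : V, m y x = m z x → m (y - z) x = 0 := by
    intro x y z hxyz
    rw [sub_eq_add_neg, h.add_left, h.neg_left, hxyz, add_neg_cancel]
  obtain ⟨α, β, hv⟩ := k.UL h hQ hV (hs _ _ _ e1) (hs' _ _ _ e2) (hs _ _ _ e3)
  exact ⟨α, β, by rw [← hv]; abel⟩

/-! ### The frame of an automorphism of order `p` -/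

section frame

variable {g : V ≃ₗ[F] V}

theorem perp_ker (gO : ∀ v, Q (g v) = Q v) {x : V} (hx : g x = x) (w : V) : polar Q x (g w - w) = 0 := by
  have h1 : polar Q (g x) (g w) = polar Q x w := by
    rw [QuadraticMap.polar, ← map_add, gO, gO, gO]; rfl
  rw [hx] at h1
  rw [polar_sub_right, h1, sub_self]

/-- `g - 1` is nilpotent -/
theorem sub_nilp {p : ℕ} [CharP F p] (hp : p.Prime) [Nontrivial V] (gp : g ^ p = 1) :
    ((g : V →ₗ[F] V) - 1 : Module.End F V) ^ p = 0 := by
  have := Fact.mk hp
  have hc : CharP (Module.End F V) p := charP_of_injective_algebraMap (algebraMap F (Module.End F V)).injective p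
  have h1 : Commute (g : V →ₗ[F] V) (1 : Module.End F V) := Commute.one_right _
  have h2 : ((g : V →ₗ[F] V) : Module.End F V) ^ p = 1 := by
    have h3 : ∀ n : ℕ, (((g ^ n : V ≃ₗ[F] V) : V →ₗ[F] V) : Module.End F V) = ((g : V →ₗ[F] V) : Module.End F V) ^ n := by
      intro n
      induction n with
      | zero => rfl
      | succ n ih => rw [pow_succ, pow_succ, ← ih]; rfl
    rw [← h3, gp]
    rfl
  rw [sub_pow_char_of_commute p h1, h2, one_pow, sub_self]

/-- a singular vector in `ker (g - 1) ∩ im (g - 1)` -/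
theorem exists_a [Finite F] [FiniteDimensional F V] (h : TC Q σ m) (hV : 5 ≤ finrank F V) {p : ℕ} [CharP F p]
    (hp : p.Prime) (gO : ∀ v, Q (g v) = Q v) (gm : ∀ u w, g (m u w) = m (g u) (g w)) (gp : g ^ p = 1) (g1 : g ≠ 1) :
    ∃ a w : V, a ≠ 0 ∧ g a = a ∧ a = g w - w ∧ Q a = 0 := by
  have hnt : Nontrivial V := Module.nontrivial_of_finrank_pos (R := F) (by omega)
  set N : Module.End F V := (g : V →ₗ[F] V) - 1 with hN
  have hNa : ∀ v, N v = g v - v := fun v => rfl
  have hNp : N ^ p = 0 := sub_nilp hp gp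
  have hN0 : N ≠ 0 := by
    intro h0
    apply g1
    ext v
    have := hNa v
    rw [h0, LinearMap.zero_apply] at this
    exact sub_eq_zero.1 this.symm
  -- a nonzero vector of `ker ∩ im`
  have hex : ∃ a w : V, a ≠ 0 ∧ g a = a ∧ a = g w - w := by
    classical
    have hE : ∃ k, N ^ k = 0 := ⟨p, hNp⟩
    set k := Nat.find hE with hk
    have hk0 : N ^ k = 0 := Nat.find_spec hE
    have hk2 : 2 ≤ k := by
      by_contra hlt
      push Not at hlt
      interval_cases hkk : k
      · rw [pow_zero] at hk0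
        exact one_ne_zero hk0
      · rw [pow_one] at hk0
        exact hN0 hk0
    have hk1 : N ^ (k - 1) ≠ 0 := Nat.find_min hE (by omega)
    obtain ⟨v, hv⟩ : ∃ v, (N ^ (k - 1)) v ≠ 0 := by
      by_contra hno
      push Not at hno
      exact hk1 (LinearMap.ext hno)
    refine ⟨(N ^ (k - 1)) v, (N ^ (k - 2)) v, hv, ?_, ?_⟩
    · have h1 : N ((N ^ (k - 1)) v) = 0 := by
        rw [← Module.End.mul_apply, ← pow_succ', Nat.sub_add_cancel (by omega), hk0, LinearMap.zero_apply]
      rw [hNa] at h1
      exact sub_eq_zero.1 h1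
    · rw [← hNa, ← Module.End.mul_apply, ← pow_succ']
      congr 2
      omega
  obtain ⟨a, w, ha0, ga, haw⟩ := hex
  by_cases h2 : (2 : F) = 0
  · -- characteristic two
    have hp2 : p = 2 := by
      have h3 : ((2 : ℕ) : F) = 0 := by exact_mod_cast h2
      have h4 := (CharP.cast_eq_zero_iff F p 2).1 h3
      exact ((Nat.prime_dvd_prime_iff_eq hp Nat.prime_two).1 h4)
    subst hp2
    by_cases hQa : Q a = 0
    · exact ⟨a, w, ha0, ga, haw, hQa⟩
    have him : ∀ v, g (g v - v) = g v - v := by
      intro v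
      have h3 : (N ^ 2) v = 0 := by rw [hNp, LinearMap.zero_apply]
      rw [pow_two, Module.End.mul_apply, hNa (N v), sub_eq_zero] at h3
      exact h3
    have hinj : ∀ x : V, m x a = 0 → x = 0 := by
      intro x hx
      have h3 := h.right a x
      rw [hx, h.zero_right] at h3
      exact ((smul_eq_zero.1 h3.symm).resolve_left fun h4 => hQa ((map_eq_zero σ.symm).1 h4))
    -- a vector of `im` outside `⟨a⟩`
    obtain ⟨v, hv⟩ : ∃ v : V, g v - v ∉ Submodule.span F {a} := by
      by_contra hno
      push Not at hno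
      have hfx : ∀ x : V, g x = x → ∃ c : F, m x a = c • a := by
        intro x hx
        have h3 : m x a = g (m x w) - m x w := by
          have e1 := h.add_right x a w
          have e2 : a + w = g w := by rw [haw]; abel
          rw [e2] at e1
          rw [gm, hx, e1]
          abel
        obtain ⟨c, hc⟩ := Submodule.mem_span_singleton.1 (hno (m x w))
        exact ⟨c, by rw [h3, hc]⟩
      have hker : LinearMap.ker N ≤ Submodule.span F {a} := by
        intro x hx
        have hx1 : g x = x := by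
          have : N x = 0 := hx
          rw [hNa] at this
          exact sub_eq_zero.1 this
        obtain ⟨c, hc⟩ := hfx x hx1
        obtain ⟨c₀, hc₀⟩ := hfx a ga
        have hc0 : c₀ ≠ 0 := by
          rintro rfl
          rw [zero_smul] at hc₀
          exact ha0 (hinj a hc₀)
        have h3 : m (x - σ (c / c₀) • a) a = 0 := by
          rw [sub_eq_add_neg, h.add_left, h.neg_left, h.smul_left, RingEquiv.symm_apply_apply, hc, hc₀, smul_smul,
            div_mul_cancel₀ _ hc0, add_neg_cancel]
        have h4 := sub_eq_zero.1 (hinj _ h3)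
        rw [h4]
        exact Submodule.smul_mem _ _ (Submodule.mem_span_singleton_self a)
      have hran : LinearMap.range N ≤ Submodule.span F {a} := by
        rintro _ ⟨x, rfl⟩
        rw [hNa]
        exact hno x
      have f1 := LinearMap.finrank_range_add_finrank_ker N
      have f2 := Submodule.finrank_mono hker
      have f3 := Submodule.finrank_mono hran
      have f4 := finrank_span_singleton (K := F) ha0
      omega
    set b := g v - v with hb
    by_cases hQb : Q b = 0
    · refine ⟨b, v, ?_, him v, hb, hQb⟩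
      intro h0
      rw [h0] at hv
      exact hv (Submodule.zero_mem _)
    have hab : polar Q a b = 0 := by rw [hb]; exact perp_ker gO ga v
    -- a square root
    have hsq : ∃ r : F, r * r = Q a / Q b := by
      have := Fintype.ofFinite F
      have hchar : ringChar F = 2 := by
        have := ringChar.eq F 2
        exact this
      obtain ⟨r, hr⟩ := FiniteField.isSquare_of_char_two hchar (Q a / Q b)
      exact ⟨r, hr.symm⟩
    obtain ⟨r, hr⟩ := hsq
    have hr0 : r ≠ 0 := by
      rintro rfl
      rw [zero_mul] at hr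
      exact (div_ne_zero hQa hQb) hr.symm
    refine ⟨a + r • b, w + r • v, ?_, ?_, ?_, ?_⟩
    · intro h0
      apply hv
      rw [Submodule.mem_span_singleton]
      refine ⟨-r⁻¹, ?_⟩
      have h3 : a = -(r • b) := eq_neg_of_add_eq_zero_left h0
      rw [h3, smul_neg, neg_smul, neg_neg, smul_smul, inv_mul_cancel₀ hr0, one_smul]
    · rw [map_add, map_smul, ga, hb, him]
    · rw [haw, hb, map_add, map_smul]
      module
    · rw [Q_add, QuadraticMap.map_smul, polar_smul_right, hab, smul_zero, add_zero, hr, smul_eq_mul,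
        div_mul_cancel₀ _ hQb, ← two_mul, h2, zero_mul]
  · refine ⟨a, w, ha0, ga, haw, ?_⟩
    have h3 := perp_ker gO ga w
    rw [← haw, polar_self'] at h3
    exact (mul_eq_zero.1 h3).resolve_left h2

/-- **The frame.** -/
theorem exists_frame [Finite F] [FiniteDimensional F V] (h : TC Q σ m) (hQ : Nondeg Q) (hV : 5 ≤ finrank F V)
    (hne : σ ≠ RingEquiv.refl F) {p : ℕ} [CharP F p] (hp : p.Prime) (gO : ∀ v, Q (g v) = Q v)
    (gm : ∀ u w, g (m u w) = m (g u) (g w)) (gp : g ^ p = 1) (g1 : g ≠ 1) :
    ∃ e b f : V, Fr Q m e b f ∧ g e = e ∧ ∃ l : F, g b = b + l • e := by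
  have hnt : Nontrivial V := Module.nontrivial_of_finrank_pos (R := F) (by omega)
  obtain ⟨a₀, w₀, ha0, ga, haw, hQa⟩ := exists_a h hV hp gO gm gp g1
  -- `e`
  obtain ⟨e, e0, ge, ee⟩ : ∃ e : V, e ≠ 0 ∧ g e = e ∧ m e e = 0 := by
    by_cases haa : m a₀ a₀ = 0
    · exact ⟨a₀, ha0, ga, haa⟩
    · refine ⟨m a₀ a₀, haa, by rw [gm, ga], ?_⟩
      have h1 : polar Q (m a₀ a₀) a₀ = 0 := by
        have h2 : g (m a₀ a₀) = m a₀ a₀ := by rw [gm, ga]
        have h3 := perp_ker gO h2 w₀
        rwa [← haw] at h3
      rw [(h.sq_sq hQa ha0).1, polar_comm, h1, zero_smul]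
  have hQe : Q e = 0 := h.sing_of_sq e0 ee
  obtain ⟨f, hf⟩ := exists_hyp hQ hQe e0
  set a := m e f with ha
  have hea : m e a = e := m_ea h hf ee
  -- a vector of `U_e ∩ f^⊥`
  obtain ⟨c, c0, hc1, hc2, hc3⟩ : ∃ c : V, c ≠ 0 ∧ m e c = 0 ∧ m c e = 0 ∧ polar Q c f = 0 := by
    let T : V →ₗ[F] (Fin 4 → F) := LinearMap.pi ![polarBilin Q e, polarBilin Q f, polarBilin Q (m e f),
      polarBilin Q (m f e)]
    have hT : LinearMap.ker T ≠ ⊥ := LinearMap.ker_ne_bot_of_finrank_lt (by
      rw [finrank_fintype_fun_eq_card, Fintype.card_fin]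
      omega)
    obtain ⟨v, hv, v0⟩ := Submodule.exists_mem_ne_zero_of_ne_bot hT
    have hTv : T v = 0 := hv
    have t0 : polar Q e v = 0 := congrFun hTv 0
    have t1 : polar Q f v = 0 := congrFun hTv 1
    have t2 : polar Q (m e f) v = 0 := congrFun hTv 2
    have t3 : polar Q (m f e) v = 0 := congrFun hTv 3
    have t0' : polar Q v e = 0 := by rw [polar_comm]; exact t0
    by_cases c1 : m v e = 0
    · by_cases c2 : m e v = 0
      · exact ⟨v, v0, c2, c1, by rw [polar_comm]; exact t1⟩
      · refine ⟨m e v, c2, ?_, ?_, ?_⟩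
        · have := h.lin2 e e v
          rwa [ee, h.zero_right, add_zero, t0, map_zero, zero_smul] at this
        · rw [h.left, hQe, map_zero, zero_smul]
        · rw [h.cyc, t3, map_zero]
    · refine ⟨m v e, c1, ?_, ?_, ?_⟩
      · rw [h.right, hQe, map_zero, zero_smul]
      · have := h.lin1 v e e
        rwa [ee, h.zero_left, add_zero, t0', map_zero, zero_smul] at this
      · rw [h.cyc, h.cyc, t2, map_zero, map_zero]
  have efp : polar Q e f = 1 := hf.pair
  -- make `g c - c` a multiple of `e`
  obtain ⟨c, c0, hc1, hc2, hc3, l, hl⟩ : ∃ c : V, c ≠ 0 ∧ m e c = 0 ∧ m c e = 0 ∧ polar Q c f = 0 ∧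
      ∃ l : F, g c = c + l • e := by
    classical
    set N : Module.End F V := (g : V →ₗ[F] V) - 1 with hN
    have hNa : ∀ v, N v = g v - v := fun v => rfl
    have hNp : N ^ p = 0 := sub_nilp hp gp
    have hE : ∃ k, (N ^ k) c ∈ Submodule.span F {e} := ⟨p, by rw [hNp]; exact Submodule.zero_mem _⟩
    set k := Nat.find hE with hk
    have hk0 : (N ^ k) c ∈ Submodule.span F {e} := Nat.find_spec hE
    have hk1 : 1 ≤ k := by
      by_contra hlt
      have hkk : k = 0 := by omega
      rw [hkk, pow_zero, Module.End.one_apply] at hk0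
      obtain ⟨t, ht⟩ := Submodule.mem_span_singleton.1 hk0
      have h1 := congrArg (fun z => polar Q z f) ht
      beta_reduce at h1
      rw [hc3, polar_smul_left, efp, smul_eq_mul, mul_one] at h1
      rw [h1, zero_smul] at ht
      exact c0 ht.symm
    have hkm : (N ^ (k - 1)) c ∉ Submodule.span F {e} := Nat.find_min hE (by omega)
    have hU : ∀ j : ℕ, m e ((N ^ j) c) = 0 ∧ m ((N ^ j) c) e = 0 := by
      intro j
      induction j with
      | zero => rw [pow_zero, Module.End.one_apply]; exact ⟨hc1, hc2⟩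
      | succ j ih =>
        rw [pow_succ', Module.End.mul_apply, hNa]
        have e1 : m e (g ((N ^ j) c)) = 0 := by
          have := gm e ((N ^ j) c)
          rw [ih.1, ge, map_zero] at this
          exact this.symm
        have e2 : m (g ((N ^ j) c)) e = 0 := by
          have := gm ((N ^ j) c) e
          rw [ih.2, ge, map_zero] at this
          exact this.symm
        refine ⟨?_, ?_⟩
        · rw [sub_eq_add_neg, h.add_right, h.neg_right, e1, ih.1, neg_zero, add_zero]
        · rw [sub_eq_add_neg, h.add_left, h.neg_left, e2, ih.2, neg_zero, add_zero]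
    set c1 := (N ^ (k - 1)) c with hc1'
    have hNc1 : N c1 ∈ Submodule.span F {e} := by
      rw [hc1', ← Module.End.mul_apply, ← pow_succ', Nat.sub_add_cancel hk1]
      exact hk0
    obtain ⟨t, ht⟩ := Submodule.mem_span_singleton.1 hNc1
    rw [hNa] at ht
    refine ⟨c1 - polar Q c1 f • e, ?_, ?_, ?_, ?_, t, ?_⟩
    · intro h0
      apply hkm
      rw [sub_eq_zero.1 h0]
      exact Submodule.smul_mem _ _ (Submodule.mem_span_singleton_self e)
    · rw [sub_eq_add_neg, h.add_right, h.neg_right, h.smul_right, ee, (hU _).1, smul_zero, neg_zero, add_zero]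
    · rw [sub_eq_add_neg, h.add_left, h.neg_left, h.smul_left, ee, (hU _).2, smul_zero, neg_zero, add_zero]
    · rw [polar_sub_left, polar_smul_left, efp, smul_eq_mul, mul_one, sub_self]
    · rw [map_sub, map_smul, ge, ht]
      abel
  -- the space `W`
  let PW : V → Prop := fun c => m e c = 0 ∧ m c e = 0 ∧ polar Q c f = 0 ∧ ∃ l : F, g c = c + l • e
  have hadd : ∀ x y, PW x → PW y → PW (x + y) := by
    rintro x y ⟨x1, x2, x3, l1, x4⟩ ⟨y1, y2, y3, l2, y4⟩
    refine ⟨by rw [h.add_right, x1, y1, add_zero], by rw [h.add_left, x2, y2, add_zero],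
      by rw [polar_add_left, x3, y3, add_zero], l1 + l2, ?_⟩
    rw [map_add, x4, y4]
    module
  have hsmul : ∀ (t : F) x, PW x → PW (t • x) := by
    rintro t x ⟨x1, x2, x3, l1, x4⟩
    refine ⟨by rw [h.smul_right, x1, smul_zero], by rw [h.smul_left, x2, smul_zero],
      by rw [polar_smul_left, x3, smul_zero], t * l1, ?_⟩
    rw [map_smul, x4]
    module
  have hae : m a e = 0 := by rw [ha, h.left, hQe, map_zero, zero_smul]
  have hA : ∀ x, PW x → PW (m a x) := by
    rintro x ⟨x1, x2, x3, l1, x4⟩
    have p1 : polar Q e x = 0 := polar_kerR h e0 ee x2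
    refine ⟨?_, ?_, ?_, ?_⟩
    · have := h.lin2 e a x
      rwa [hae, h.zero_right, add_zero, p1, map_zero, zero_smul] at this
    · have h1 := h.lin1 a x e
      have h2 : polar Q a e = 0 := by rw [ha, h.cyc, ee, polar_zero_left, map_zero]
      rwa [x1, h.zero_left, add_zero, h2, map_zero, zero_smul] at h1
    · rw [h.cyc, ha, h.right, hf.right, map_zero, zero_smul, polar_zero_left, map_zero]
    · -- `g a = e ⋄ g f`
      have g2 : g a = m e (g f) := by rw [ha, gm, ge]
      set k := g f - f with hk
      have pk : polar Q e k = 0 := by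
        rw [hk]
        exact perp_ker gO ge f
      have d1 : m e (m e k) = 0 := by
        have := h.lin2 e e k
        rwa [ee, h.zero_right, add_zero, pk, map_zero, zero_smul] at this
      have d2 := mul_UU h hf d1 x2
      refine ⟨σ (polar Q (m f (m e k)) x), ?_⟩
      have g3 : g f = f + k := by rw [hk]; abel
      have g4 : m (m e (f + k)) e = 0 := by rw [h.left, hQe, map_zero, zero_smul]
      rw [gm, g2, x4, h.add_right, h.smul_right, g3, g4, smul_zero, add_zero, h.add_right, h.add_left, ← ha, d2]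
  have hA3 : ∀ x, PW x → m a (m a (m a x)) = x := by
    intro x hx
    have step : ∀ x, PW x → m a (m a x) = m x (m f e) := by
      rintro x ⟨x1, x2, x3, -⟩
      have h1 := h.lin2 a a x
      have h2 : polar Q a x = 0 := by rw [ha, h.cyc, x2, polar_zero_left, map_zero]
      rw [h2, map_zero, zero_smul] at h1
      have h3 : m a a = σ.symm (polar Q a f) • e - m f e := by
        have := h.lin2 a e f
        rw [hea] at this
        rw [← this]
        exact (add_sub_cancel_right _ _).symm
      rw [h3, sub_eq_add_neg, h.add_right, h.smul_right, x2, smul_zero, zero_add, h.neg_right] at h1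
      rw [add_neg_eq_zero] at h1
      exact h1
    rw [step _ (hA x hx)]
    obtain ⟨x1, x2, x3, -⟩ := hx
    have h1 := h.lin1 a x (m f e)
    have h2 : m (m f e) x = 0 := by
      have := h.lin1 f e x
      rwa [x2, h.zero_left, add_zero, polar_comm Q f x, x3, map_zero, zero_smul] at this
    have h3 : polar Q a (m f e) = 1 := by
      have h4 : m f (m f e) = f - m e (m f f) := by
        have := h.lin2 f f e
        rw [hf.pair', map_one, one_smul] at this
        exact eq_sub_of_add_eq this
      have h5 : polar Q e (m e (m f f)) = 0 := by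
        rw [polar_comm, h.cyc, ee, polar_zero_left, map_zero]
      rw [ha, h.assoc, h4, polar_sub_right, h5, sub_zero, efp, map_one]
    rw [h2, h.zero_left, add_zero, h3, map_one, one_smul] at h1
    exact h1
  have hcW : PW c := ⟨hc1, hc2, hc3, l, hl⟩
  obtain ⟨t, ht0, ht⟩ := hilbert90 hQ h.cube hne (A := fun x => m a x) (fun x y => h.add_right a x y) c0
    (fun t x => h.smul_right t a x) (hA3 c hcW)
  set b := t • c + σ t • m a c + σ (σ t) • m a (m a c) with hb
  have hbW : PW b := hadd _ _ (hadd _ _ (hsmul _ _ hcW) (hsmul _ _ (hA _ hcW))) (hsmul _ _ (hA _ (hA _ hcW)))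
  obtain ⟨b1, b2, b3, l', hl'⟩ := hbW
  have hQb : Q b = 0 := Q_kerR h e0 b2
  refine ⟨e, b, f, ⟨hf, hQb, ht0, polar_kerR h e0 ee b2, by rw [polar_comm]; exact b3, ee, b1, b2, ?_, ht⟩, ge, l', hl'⟩
  have h1 := h.right b a
  rw [ht, hQb, map_zero, zero_smul] at h1
  exact h1

end frame

end tri

end Cfsg.Agent.H332.RC
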