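import Cfsg.Agent.H332.RC.TriA
import Cfsg.Agent.H864.RC.T3

/-!
# S3510, triality type iii, `k = 2` (helper332): `dead_k2`

* `tcF` : `dia (fG s)` is a twisted composition;
* `xt_class` : the class of `h`, `h (u ⋄ w) = k₁ u ⋄ k₂ w`, is mapped by `xt` to the class of `k₁` up to a scalar;
* `trace_rule` : an element of `E Q` preserving `⟨e, b⟩` whose class has order a power of `p`;
* `dead_k2` : no cover by a triality graph-field automorphism and one element of order `p`.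
-/

set_option autoImplicit false
open Cfsg

namespace Cfsg.Agent.H332.RC

open Module QuadraticMap MulAction
open Cfsg.Agent.LieClassical.OrthCore Cfsg.Agent.LieClassical.OrthTrans
open Cfsg.Agent.LieClassical.OrthSimple Cfsg.Agent.ClassicalGeometry.OrthSemi
open Cfsg.Agent.ClassicalGeometry.OrthAut1 Cfsg.Agent.H106.RC Cfsg.Agent.H93.RC Cfsg.Agent.H566.RC
open Cfsg.Agent.LieClassical.QuadForms Cfsg.Agent.ClassicalGeometry.TrialityOct
open Cfsg.Agent.ClassicalGeometry.Triality Cfsg.Agent.ClassicalGeometry.TrialitySpaces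
open Cfsg.Agent.H198.TriBase Cfsg.Agent.H198.TriAut Cfsg.Agent.H206.Balance Cfsg.Agent.H198.TriDia
open Cfsg.Agent.H864.RC Cfsg.Agent.H198.TwComp Cfsg.Agent.H198.Classes Cfsg.Agent.H198.ClassesPlus

section dia

variable {F : Type} [Field F]

theorem tcF {s : F ≃+* F} (h3 : ∀ a, s (s (s a)) = a) : TC (plusForm 4 F) s (dia (fG s)) := by
  have hs : IsSS (plusForm 4 F) s 1 (fG s).1 := isSS_fP s
  have hsi : IsSS (plusForm 4 F) s.symm (s.symm 1⁻¹) (fG s)⁻¹.1 := hs.inv
  have osm : ∀ (c : F) (x : V8 F), oconj (c • x) = c • oconj x := fun c x => by coord8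
  have oad : ∀ (x y : V8 F), oconj (x + y) = oconj x + oconj y := fun x y => by coord8
  have ia : ∀ x : V8 F, (fG s)⁻¹.1 ((fG s).1 x) = x := fun x => (fG s).1.symm_apply_apply x
  have f3 : ∀ x : V8 F, (fG s).1 ((fG s).1 ((fG s).1 x)) = x := by
    intro x
    funext i
    rw [fG_apply, fG_apply, fG_apply, h3]
  have i2 : ∀ x : V8 F, (fG s)⁻¹.1 x = (fG s).1 ((fG s).1 x) := by
    intro x
    have := ia ((fG s).1 ((fG s).1 x))
    rwa [f3] at this
  have ff : ∀ x : V8 F, (fG s)⁻¹.1 ((fG s)⁻¹.1 x) = (fG s).1 x := by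
    intro x
    rw [i2 x, ia]
  have mul : ∀ x y : V8 F, (fG s).1 (omul x y) = omul ((fG s).1 x) ((fG s).1 y) := tri_fG s
  have muli : ∀ x y : V8 F, (fG s)⁻¹.1 (omul x y) = omul ((fG s)⁻¹.1 x) ((fG s)⁻¹.1 y) := (tri_fG s).inv
  have con : ∀ x : V8 F, (fG s).1 (oconj x) = oconj ((fG s).1 x) := aut_oconj (tri_fG s)
  have coni : ∀ x : V8 F, (fG s)⁻¹.1 (oconj x) = oconj ((fG s)⁻¹.1 x) := aut_oconj (tri_fG s).inv
  refine ⟨?_, ?_, ?_, ?_, ?_, ?_, h3⟩
  · intro a b c
    rw [dia, dia, dia, oad, hsi.add, add_omul]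
  · intro a b c
    rw [dia, dia, dia, oad, hs.add, omul_add]
  · intro k a b
    rw [dia, dia, osm, hsi.smul, smul_omul]
  · intro k a b
    rw [dia, dia, osm, hs.smul, omul_smul]
  · intro a b
    have e1 : (fG s)⁻¹.1 (oconj (dia (fG s) a b)) = omul b ((fG s).1 a) := by
      rw [dia, con b, coni a, oconj_omul, oconj_oconj, oconj_oconj, muli, ia, ff]
    have e2 : dia (fG s) (dia (fG s) a b) a = omul ((fG s)⁻¹.1 (oconj (dia (fG s) a b))) ((fG s).1 (oconj a)) := rfl
    rw [e2, e1, con, omul_omul_oconj, hs.form, one_mul]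
  · intro a b
    have e1 : (fG s).1 (oconj (dia (fG s) b a)) = omul ((fG s)⁻¹.1 a) b := by
      rw [dia, con a, coni b, oconj_omul, oconj_oconj, oconj_oconj, mul, i2 a, i2 b, f3]
    have e2 : dia (fG s) a (dia (fG s) b a) = omul ((fG s)⁻¹.1 (oconj a)) ((fG s).1 (oconj (dia (fG s) b a))) := rfl
    rw [e2, e1, coni, oconj_omul_omul, hsi.form, inv_one, map_one, one_mul]

/-- `nucleus` for maps -/
theorem nucleusF {k₁ k₂ : V8 F → V8 F} (h : ∀ x y, omul x y = omul (k₁ x) (k₂ y)) :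
    ∃ c : F, c ≠ 0 ∧ ∀ x, k₁ x = c • x := by
  set d := k₂ (one8 F) with hd
  set e := k₁ (one8 F) with he
  have hd1 : ∀ x, omul (k₁ x) d = x := fun x => by rw [hd, ← h, omul_one]
  have he1 : ∀ y, omul e (k₂ y) = y := fun y => by rw [he, ← h, one_omul]
  have hN : plusForm 4 F e * plusForm 4 F d = 1 := by
    rw [← norm_omul, hd1, norm_one8]
  have hNd : plusForm 4 F d ≠ 0 := right_ne_zero_of_mul_eq_one hN
  have hNe : plusForm 4 F e ≠ 0 := left_ne_zero_of_mul_eq_one hN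
  have hk1 : ∀ x, plusForm 4 F d • k₁ x = omul x (oconj d) := fun x => by
    rw [← omul_omul_oconj, hd1]
  have hk1' : ∀ x, k₁ x = omul x e := by
    intro x
    apply smul_right_injective _ hNd
    show plusForm 4 F d • k₁ x = plusForm 4 F d • omul x e
    rw [hk1, ← omul_smul, he, hk1, one_omul]
  have hassoc : ∀ x y : V8 F, omul x (omul e y) = omul (omul x e) y := by
    intro x y
    rw [h x (omul e y), ← hk1']
    congr 1
    exact omul_left_cancel hNe (he1 _)
  have hsc := scalar_of_assoc hassoc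
  set c := e (.inl 0) with hc
  have hc0 : c ≠ 0 := by
    intro h0
    rw [h0, zero_smul] at hsc
    rw [hsc, QuadraticMap.map_zero] at hNe
    exact hNe rfl
  exact ⟨c, hc0, fun x => by rw [hk1', hsc, omul_smul, omul_one]⟩

/-- the triality image of a class -/
theorem xt_class (hG : Good (plusForm 4 F)) {τ : G8 F} (hτ : TriS τ τ τ) (h : ↥(E (plusForm 4 F)))
    {k₁ k₂ : V8 F → V8 F} (hk : ∀ u w, (h : V8 F ≃ₗ[F] V8 F) (dia τ u w) = dia τ (k₁ u) (k₂ w)) :
    ∃ (k : ↥(E (plusForm 4 F))) (c : F), c ≠ 0 ∧ xt hG τ (h : P8 F) = (k : P8 F) ∧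
      ∀ v, k₁ v = c • (k : V8 F ≃ₗ[F] V8 F) v := by
  have ia : ∀ x : V8 F, τ⁻¹.1 (τ.1 x) = x := fun x => τ.1.symm_apply_apply x
  have ai : ∀ x : V8 F, τ.1 (τ⁻¹.1 x) = x := fun x => τ.1.apply_symm_apply x
  obtain ⟨g₁, g₂, ht⟩ := exists_triple hG h.2
  have hT : TriE (h : V8 F ≃ₗ[F] V8 F) (⟨g₁, ht.1.2.1⟩ : ↥(E (plusForm 4 F))) g₂ := ht
  have hx : xt hG τ (h : P8 F) =
      ((⟨conjLin τ (kap F * g₁ * kap F), conjLin_mem_E τ (kap_conj_mem ht.1.2.1)⟩ : ↥(E (plusForm 4 F))) : P8 F) := by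
    rw [xt, MulAut.mul_apply, rho_mk hG hT, Psi_mk]
    rfl
  let K₁ : V8 F → V8 F := fun x => τ⁻¹.1 (oconj (k₁ (oconj (τ.1 x))))
  let K₂ : V8 F → V8 F := fun y => τ.1 (oconj (k₂ (oconj (τ⁻¹.1 y))))
  have hK : ∀ x y, (h : V8 F ≃ₗ[F] V8 F) (omul x y) = omul (K₁ x) (K₂ y) := by
    intro x y
    have e := hk (oconj (τ.1 x)) (oconj (τ⁻¹.1 y))
    rw [dia, dia, oconj_oconj, oconj_oconj, ia, ai] at e
    exact e
  obtain ⟨c, hc0, hc⟩ := nucleusF (k₁ := fun x => K₁ (g₁.symm x)) (k₂ := fun y => K₂ (g₂.symm y)) (fun x y => by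
    rw [← hK, ht.2, LinearEquiv.apply_symm_apply, LinearEquiv.apply_symm_apply])
  have hc' : ∀ x, K₁ x = c • g₁ x := by
    intro x
    have := hc (g₁ x)
    rwa [LinearEquiv.symm_apply_apply] at this
  obtain ⟨σ, k, hs⟩ := τ.2
  refine ⟨_, σ c, (map_ne_zero σ).2 hc0, hx, fun v => ?_⟩
  have e1 := hc' (oconj (τ⁻¹.1 v))
  have e2 : K₁ (oconj (τ⁻¹.1 v)) = τ⁻¹.1 (oconj (k₁ v)) := by
    show τ⁻¹.1 (oconj (k₁ (oconj (τ.1 (oconj (τ⁻¹.1 v)))))) = _
    rw [aut_oconj hτ, ai, oconj_oconj]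
  rw [e2] at e1
  have osm : ∀ (c : F) (x : V8 F), oconj (c • x) = c • oconj x := fun c x => by coord8
  have e3 := congrArg (fun z => τ.1 (oconj z)) e1
  beta_reduce at e3
  rw [osm, hs.smul, aut_oconj hτ, ai, oconj_oconj] at e3
  exact e3

end dia

section trace

open Matrix

variable {F V : Type*} [Field F] [AddCommGroup V] [Module F V]

/-- **Trace rule.** -/
theorem trace_rule [Finite F] {p : ℕ} [CharP F p] {z : V ≃ₗ[F] V} {e b : V}
    (hli : LinearIndependent F ![e, b]) {α β γ δ c : F} (hc : c ≠ 0) (hdet : α * δ - β * γ = 1)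
    (he : z e = c • (α • e + β • b)) (hb : z b = c • (γ • e + δ • b)) {k : ℕ} {μ : F}
    (hz : ∀ v, (z ^ (p ^ k)) v = μ • v) : (α + δ) ^ 2 = 4 := by
  have := Fintype.ofFinite F
  let M : Matrix (Fin 2) (Fin 2) F := !![α, γ; β, δ]
  -- powers of `z`
  have hpow : ∀ n : ℕ, ∀ x : Fin 2 → F, (z ^ n) (x 0 • e + x 1 • b) =
      c ^ n • (((M ^ n) *ᵥ x) 0 • e + ((M ^ n) *ᵥ x) 1 • b) := by
    intro n
    induction n with
    | zero => intro x; simp
    | succ n ih =>
      intro x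
      rw [pow_succ' z, pow_succ' M, ← Matrix.mulVec_mulVec]
      show z ((z ^ n) (x 0 • e + x 1 • b)) = _
      rw [ih, map_smul, map_add, map_smul, map_smul, he, hb]
      set w := (M ^ n) *ᵥ x with hw
      have m0 : (M *ᵥ w) 0 = α * w 0 + γ * w 1 := by
        simp [M, Matrix.mulVec, dotProduct, Fin.sum_univ_two]
      have m1 : (M *ᵥ w) 1 = β * w 0 + δ * w 1 := by
        simp [M, Matrix.mulVec, dotProduct, Fin.sum_univ_two]
      rw [m0, m1]
      module
  set n := p ^ k with hn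
  have hcn : c ^ n ≠ 0 := pow_ne_zero _ hc
  rw [LinearIndependent.pair_iff] at hli
  have key : ∀ x : Fin 2 → F, (M ^ n) *ᵥ x = ((c ^ n)⁻¹ * μ) • x := by
    intro x
    have h1 := hpow n x
    rw [hz] at h1
    have h2 : (μ * x 0 - c ^ n * ((M ^ n) *ᵥ x) 0) • e + (μ * x 1 - c ^ n * ((M ^ n) *ᵥ x) 1) • b = 0 := by
      have h3 : (μ * x 0 - c ^ n * ((M ^ n) *ᵥ x) 0) • e + (μ * x 1 - c ^ n * ((M ^ n) *ᵥ x) 1) • b =
          μ • (x 0 • e + x 1 • b) - c ^ n • (((M ^ n) *ᵥ x) 0 • e + ((M ^ n) *ᵥ x) 1 • b) := by module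
      rw [h3, h1, sub_self]
    obtain ⟨h3, h4⟩ := hli _ _ h2
    funext i
    rw [Pi.smul_apply, smul_eq_mul, mul_assoc, eq_inv_mul_iff_mul_eq₀ hcn]
    fin_cases i
    · exact (sub_eq_zero.1 h3).symm
    · exact (sub_eq_zero.1 h4).symm
  set ν := (c ^ n)⁻¹ * μ with hν
  have hM : M ^ n = ν • (1 : Matrix (Fin 2) (Fin 2) F) := by
    apply Matrix.ext_of_mulVec_single
    intro i
    rw [key, Matrix.smul_mulVec, Matrix.one_mulVec]
  have hdM : M.det = 1 := by
    rw [Matrix.det_fin_two_of]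
    linear_combination hdet
  have hν2 : ν ^ 2 = 1 := by
    have h1 := congrArg Matrix.det hM
    rw [Matrix.det_pow, hdM, one_pow, Matrix.det_smul, Matrix.det_one, Fintype.card_fin, mul_one] at h1
    exact h1.symm
  -- `q ^ k` is a multiple of `p ^ k`
  obtain ⟨a, -, ha⟩ := FiniteField.card F p
  have htr : ∀ j : ℕ, Matrix.trace (M ^ (Fintype.card F ^ j)) = Matrix.trace M := by
    intro j
    induction j with
    | zero => rw [pow_zero, pow_one]
    | succ j ih =>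
      rw [pow_succ, pow_mul, FiniteField.trace_pow_card, ih, FiniteField.pow_card]
  have h5 := htr k
  have h6 : Fintype.card F ^ k = n * p ^ ((a - 1) * k) := by
    rw [ha, hn, ← pow_mul, ← pow_add]
    congr 1
    have := a.pos
    have h7 : (a : ℕ) = 1 + ((a : ℕ) - 1) := by omega
    conv_lhs => rw [h7]
    rw [add_mul, one_mul]
  rw [h6, pow_mul, hM, smul_pow, one_pow, Matrix.trace_smul, Matrix.trace_one, Fintype.card_fin] at h5
  have h8 : Matrix.trace M = α + δ := by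
    rw [Matrix.trace_fin_two_of]
  rw [← h8, ← h5, smul_eq_mul, mul_pow, ← pow_mul, mul_comm _ 2, pow_mul, hν2, one_pow]
  norm_num

end trace

section cov

variable {G Ω : Type} [Group G] [MulAction G Ω] {N : Subgroup G}

/-- (MV) for a cover with two members -/
theorem mv2 {a b y : G} (hc : ∀ ω : Ω, a • ω = ω ∨ b • ω = ω)
    (hy : y ∈ Subgroup.closure {z | ∃ c : G, c * b = b * c ∧ z = c * a * c⁻¹}) :
    ∀ ω : Ω, y • ω = ω ∨ b • ω = ω := by
  intro ω
  by_cases hb : b • ω = ω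
  · exact Or.inr hb
  left
  have hle : Subgroup.closure {z | ∃ c : G, c * b = b * c ∧ z = c * a * c⁻¹} ≤ stabilizer G ω := by
    rw [Subgroup.closure_le]
    rintro _ ⟨c, hcb, rfl⟩
    have h1 : b • (c⁻¹ • ω) ≠ c⁻¹ • ω := by
      intro hfix
      apply hb
      have h2 : c • (b • (c⁻¹ • ω)) = ω := by rw [hfix, smul_inv_smul]
      rw [← mul_smul, hcb, mul_smul, smul_inv_smul] at h2
      exact h2
    have h2 := (hc (c⁻¹ • ω)).resolve_right h1
    show (c * a * c⁻¹) • ω = ω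
    rw [mul_smul, mul_smul, h2, smul_inv_smul]
  exact hle hy

/-- `NoN`: a member of a two-element cover commuting with the other one, of order `p`, has order a power of `p` -/
theorem pgrp_of [Finite G] (hN : NoN Ω N) {p : ℕ} (hp : p.Prime) {d y : G} (dN : d ∈ N) (dp : d ^ p = 1) (d1 : d ≠ 1)
    (yN : y ∈ N) (yd : y * d = d * y) (hc : ∀ ω : Ω, y • ω = ω ∨ d • ω = ω) : ∃ k : ℕ, y ^ (p ^ k) = 1 := by
  have hpos : orderOf y ≠ 0 := (orderOf_pos y).ne'
  obtain ⟨k, m, hm, hkm⟩ := Nat.exists_eq_pow_mul_and_not_dvd hpos p hp.ne_one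
  refine ⟨k, ?_⟩
  by_cases hm1 : m = 1
  · rw [hm1, mul_one] at hkm
    rw [← hkm, pow_orderOf_eq_one]
  exfalso
  obtain ⟨r, hr, hrm⟩ := Nat.exists_prime_and_dvd hm1
  have hrp : r ≠ p := by
    rintro rfl
    exact hm hrm
  have hrn : r ∣ orderOf y := by
    rw [hkm]
    exact hrm.mul_left _
  have ho : orderOf (y ^ (orderOf y / r)) = r := by
    rw [orderOf_pow' y (Nat.div_pos (Nat.le_of_dvd (orderOf_pos y) hrn) hr.pos).ne',
      Nat.gcd_eq_right (Nat.div_dvd_of_dvd hrn), Nat.div_div_self hrn hpos]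
  set z := y ^ (orderOf y / r) with hz
  have hzd : z * d = d * z := (Commute.pow_left (show Commute y d from yd) _).eq
  have hz1 : z ≠ 1 := by
    intro h1
    rw [h1, orderOf_one] at ho
    exact hr.one_lt.ne ho
  refine hN Bool (fun i => if i then z else d) (fun i => if i then r else p) ⟨?_, ?_, ?_, ?_, ?_⟩ ?_ ?_
  · intro i
    cases i
    · exact hp
    · exact hr
  · intro i j hij
    cases i <;> cases j
    · rfl
    · exact (hrp hij.symm).elim
    · exact (hrp hij).elim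
    · rfl
  · intro i
    cases i
    · exact dp
    · show z ^ r = 1
      rw [← ho, pow_orderOf_eq_one]
  · intro i
    cases i
    · exact d1
    · exact hz1
  · intro i j
    cases i <;> cases j
    · rfl
    · exact hzd.symm
    · exact hzd
    · rfl
  · intro ω
    rcases hc ω with h | h
    · refine ⟨true, ?_⟩
      have : z ∈ stabilizer G ω := Subgroup.pow_mem _ h _
      exact this
    · exact ⟨false, h⟩
  · intro i
    cases i
    · exact dN
    · exact Subgroup.pow_mem _ yN _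

end cov

section main

variable {F : Type} [Field F]

/-- elements of `E Q` attached to Siegel pairs -/
def SE {u w : V8 F} (hu : plusForm 4 F u = 0) (hw : polar (plusForm 4 F) u w = 0) : ↥(E (plusForm 4 F)) :=
  ⟨siegel (plusForm 4 F) u w hu hw, siegel_mem_E hu hw⟩

theorem SE_apply {u w : V8 F} (hu : plusForm 4 F u = 0) (hw : polar (plusForm 4 F) u w = 0) (v : V8 F) :
    (SE hu hw : V8 F ≃ₗ[F] V8 F) v = v + polar (plusForm 4 F) u v • w - polar (plusForm 4 F) w v • u -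
      (plusForm 4 F w * polar (plusForm 4 F) u v) • u := siegel_apply hu hw v

theorem SE_mul {u w w' : V8 F} (hu : plusForm 4 F u = 0) (hw : polar (plusForm 4 F) u w = 0)
    (hw' : polar (plusForm 4 F) u w' = 0) (h : polar (plusForm 4 F) u (w + w') = 0) :
    SE hu hw * SE hu hw' = SE hu h := Subtype.ext (siegel_mul hu hw hw' h)

theorem SE_comm {u w w' : V8 F} (hu : plusForm 4 F u = 0) (hw : polar (plusForm 4 F) u w = 0)
    (hw' : polar (plusForm 4 F) u w' = 0) : SE hu hw * SE hu hw' = SE hu hw' * SE hu hw := by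
  have h : polar (plusForm 4 F) u (w + w') = 0 := by rw [polar_add_right, hw, hw', add_zero]
  have h' : polar (plusForm 4 F) u (w' + w) = 0 := by rw [add_comm]; exact h
  rw [SE_mul hu hw hw' h, SE_mul hu hw' hw h']
  exact Subtype.ext (LinearEquiv.ext fun v => by
    show (SE hu h : V8 F ≃ₗ[F] V8 F) v = (SE hu h' : V8 F ≃ₗ[F] V8 F) v
    rw [SE_apply, SE_apply, add_comm w w'])

/-- the root group of the line `⟨e, b⟩` -/
def XE {e b f : V8 F} {s : F ≃+* F} (k : Fr (plusForm 4 F) (dia (fG s)) e b f) (t : F) : ↥(E (plusForm 4 F)) :=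
  SE (u := e) (w := t • b) k.hyp.left (by rw [polar_smul_right, k.eb, smul_zero])

section

variable {e b f : V8 F} {s : F ≃+* F} (k : Fr (plusForm 4 F) (dia (fG s)) e b f)

theorem XE_apply (t : F) (v : V8 F) : (XE k t : V8 F ≃ₗ[F] V8 F) v =
    v + (t * polar (plusForm 4 F) e v) • b - (t * polar (plusForm 4 F) b v) • e := by
  rw [XE, SE_apply, QuadraticMap.map_smul, k.Qb, polar_smul_left]
  module

theorem XE_add (t u : F) : XE k (t + u) = XE k t * XE k u := by
  have e1 : ∀ v, (XE k u : V8 F ≃ₗ[F] V8 F) v =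
      v + (u * polar (plusForm 4 F) e v) • b - (u * polar (plusForm 4 F) b v) • e := XE_apply k u
  apply Subtype.ext
  apply LinearEquiv.ext
  intro v
  show _ = (XE k t : V8 F ≃ₗ[F] V8 F) ((XE k u : V8 F ≃ₗ[F] V8 F) v)
  have h1 : polar (plusForm 4 F) e e = 0 := polar_self_of_sing k.hyp.left
  have h2 : polar (plusForm 4 F) b b = 0 := polar_self_of_sing k.Qb
  have h3 : polar (plusForm 4 F) b e = 0 := by rw [polar_comm]; exact k.eb
  rw [XE_apply, XE_apply, e1]
  simp only [polar_add_right, polar_sub_right, polar_smul_right, h1, h2, h3, k.eb, smul_eq_mul, mul_zero, add_zero,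
    sub_zero]
  module

theorem XE_zero : XE k 0 = 1 := by
  have h1 := XE_add k 0 0
  rw [add_zero] at h1
  exact left_eq_mul.1 h1

theorem XE_pow (t : F) (n : ℕ) : XE k t ^ n = XE k (n * t) := by
  induction n with
  | zero => rw [pow_zero, Nat.cast_zero, zero_mul, XE_zero]
  | succ n ih => rw [pow_succ, ih, ← XE_add, Nat.cast_succ, add_mul, one_mul]

theorem XE_ne (hG : Good (plusForm 4 F)) {t : F} (ht : t ≠ 0) : (XE k t : P8 F) ≠ 1 := by
  intro h1
  have h2 : XE k t ∈ Subgroup.center ↥(E (plusForm 4 F)) := (QuotientGroup.eq_one_iff _).1 h1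
  obtain ⟨c, hc⟩ := center_scalar hG h2
  have h3 := hc f
  have hff : polar (plusForm 4 F) e f = 1 := k.hyp.pair
  have hbf : polar (plusForm 4 F) b f = 0 := by rw [polar_comm]; exact k.fb
  rw [XE_apply, hff, hbf, mul_one, mul_zero, zero_smul, sub_zero] at h3
  -- `f + t b = c f`: pair with `e`, then `c = 1`
  have h4 := congrArg (fun z => polar (plusForm 4 F) e z) h3
  beta_reduce at h4
  rw [polar_add_right, polar_smul_right, polar_smul_right, k.eb, smul_zero, add_zero, hff, smul_eq_mul, mul_one] at h4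
  rw [← h4, one_smul, add_eq_left] at h3
  exact (smul_ne_zero ht k.b0) h3

/-- `x₁` acts on the root group as `s` -/
theorem XE_xt (hG : Good (plusForm 4 F)) (h3 : ∀ a, s (s (s a)) = a) (t : F) :
    xt hG (fG s) (XE k t : P8 F) = (XE k (s t) : P8 F) := by
  have tc := tcF h3
  have h1 : ∀ u w, (XE k t : V8 F ≃ₗ[F] V8 F) (dia (fG s) u w) =
      dia (fG s) (u - dia (fG s) (dia (fG s) (t • b) u) e) (w + dia (fG s) (t • b) (dia (fG s) w e)) := by
    intro u w
    rw [← tri_sieg tc k.hyp.left (by rw [QuadraticMap.map_smul, k.Qb, smul_zero])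
      (by rw [polar_smul_right, k.eb, smul_zero]), XE_apply, polar_smul_left]
    module
  obtain ⟨j, c, hc0, hj, hjv⟩ := xt_class hG (tri_fG s) (XE k t) h1
  rw [hj]
  refine mk_eq_of_smul (c := c) fun v => ?_
  rw [← hjv v, tc.smul_left, tc.smul_left, k.F1 tc, XE_apply, tc.symm_symm]
  module

end

end main

/-! ### The end -/

section final

variable {F : Type} [Field F] {G Ω ι : Type} [Group G] [MulAction G Ω] {N : Subgroup G}
  {hG : Good (plusForm 4 F)} {κ : P8 F →* G} {s : F ≃+* F} {x₁ : G} {x : ι → G} {r : ι → ℕ}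
  {g : ι → (V8 F ≃ₗ[F] V8 F)}

theorem up_mem (hκ : Rp (plusForm 4 F) N κ) (t : ↥(E (plusForm 4 F))) : up κ t ∈ N := by
  rw [← hκ.range]
  exact ⟨_, rfl⟩

/-- Siegel elements under isometries -/
theorem SE_conj {c : ↥(E (plusForm 4 F))} {u w u' w' : V8 F} (hu : plusForm 4 F u = 0)
    (hw : polar (plusForm 4 F) u w = 0) (hu' : plusForm 4 F u' = 0) (hw' : polar (plusForm 4 F) u' w' = 0)
    (e1 : (c : V8 F ≃ₗ[F] V8 F) u = u') (e2 : (c : V8 F ≃ₗ[F] V8 F) w = w') :
    c * SE hu hw = SE hu' hw' * c := by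
  subst e1
  subst e2
  have h1 := siegel_conj (E_le_O c.2) hu hw hu' hw'
  apply Subtype.ext
  rw [mul_inv_eq_iff_eq_mul] at h1
  exact h1

/-- two Siegel elements with the same action -/
theorem SE_ext {u w u' w' : V8 F} (hu : plusForm 4 F u = 0) (hw : polar (plusForm 4 F) u w = 0)
    (hu' : plusForm 4 F u' = 0) (hw' : polar (plusForm 4 F) u' w' = 0)
    (h : ∀ v, (SE hu hw : V8 F ≃ₗ[F] V8 F) v = (SE hu' hw' : V8 F ≃ₗ[F] V8 F) v) : SE hu hw = SE hu' hw' :=
  Subtype.ext (LinearEquiv.ext h)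

theorem inv_apply_eq {c : ↥(E (plusForm 4 F))} {v w : V8 F} (h : (c : V8 F ≃ₗ[F] V8 F) v = w) :
    ((c⁻¹ : ↥(E (plusForm 4 F))) : V8 F ≃ₗ[F] V8 F) w = v := by
  rw [← h]
  exact (c : V8 F ≃ₗ[F] V8 F).symm_apply_apply v

theorem two_elt_false [Finite G] [Finite F] (hκ : Rp (plusForm 4 F) N κ) (hN : NoN Ω N) {p : ℕ} [CharP F p]
    (hp : p.Prime) {e b f : V8 F} (hG : Good (plusForm 4 F)) (k : Fr (plusForm 4 F) (dia (fG s)) e b f) {d : G}
    (dN : d ∈ N) (dp : d ^ p = 1) (d1 : d ≠ 1) {z : ↥(E (plusForm 4 F))} (zd : up κ z * d = d * up κ z)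
    (hc : ∀ ω : Ω, up κ z • ω = ω ∨ d • ω = ω) {α β γ δ c : F} (hc0 : c ≠ 0) (hdet : α * δ - β * γ = 1)
    (he : (z : V8 F ≃ₗ[F] V8 F) e = c • (α • e + β • b)) (hb : (z : V8 F ≃ₗ[F] V8 F) b = c • (γ • e + δ • b)) :
    (α + δ) ^ 2 = 4 := by
  obtain ⟨j, hj⟩ := pgrp_of hN hp dN dp d1 (up_mem hκ z) zd hc
  rw [← map_pow, up_apply] at hj
  have h1 : ((z ^ p ^ j : ↥(E (plusForm 4 F))) : P8 F) = 1 := (map_eq_one_iff κ hκ.inj).1 hj
  obtain ⟨μ, hμ⟩ := center_scalar hG ((QuotientGroup.eq_one_iff _).1 h1)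
  have hli : LinearIndependent F ![e, b] := by
    rw [LinearIndependent.pair_iff]
    intro s t hst
    have e1 := congrArg (fun z => polar (plusForm 4 F) f z) hst
    beta_reduce at e1
    rw [polar_add_right, polar_smul_right, polar_smul_right, k.fb, k.hyp.pair', smul_zero, add_zero, polar_zero_right,
      smul_eq_mul, mul_one] at e1
    rw [e1, zero_smul, zero_add] at hst
    exact ⟨e1, (smul_eq_zero.1 hst).resolve_right k.b0⟩
  refine trace_rule (p := p) (z := (z : V8 F ≃ₗ[F] V8 F)) hli hc0 hdet he hb (k := j) (μ := μ) fun v => ?_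
  rw [← hμ v, Subgroup.coe_pow]

set_option maxHeartbeats 2000000 in
/-- **`dead_k2`**: type iii, one member of order `p` and nothing else. -/
theorem dead_k2 [Finite F] [Finite G] [Finite ι] [Nonempty Ω] {p : ℕ} [CharP F p]
    (h : T3 hG N κ s Ω x₁ x r g) (hN : NoN Ω N) (i₀ : ι) (hi : r i₀ = p) (hall : ∀ i, i = i₀) : False := by
  have hp : p.Prime := hi ▸ h.prime i₀
  have hE := h.env
  have hκ := h.rp
  have tc := tcF h.cube
  have hQ : Nondeg (plusForm 4 F) := hG.nondeg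
  have h8 : finrank F (V8 F) = 8 := by
    rw [finrank_fintype_fun_eq_card, Fintype.card_sum, Fintype.card_fin]
  set g₀ : ↥(E (plusForm 4 F)) := ⟨g i₀, (h.mem i₀).1⟩ with hg₀
  set u := x i₀ with hu
  have hug : u = up κ g₀ := h.x_eq i₀
  have uN : u ∈ N := h.x_mem i₀
  have up1 : u ^ p = 1 := hi ▸ h.x_pow i₀
  have u1 : u ≠ 1 := h.x_ne i₀
  have gm : ∀ v w, g i₀ (dia (fG s) v w) = dia (fG s) (g i₀ v) (g i₀ w) := (h.mem i₀).2
  have gO : ∀ v, (plusForm 4 F) (g i₀ v) = (plusForm 4 F) v := E_le_O (h.mem i₀).1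
  have gpol : ∀ v w, polar (plusForm 4 F) (g i₀ v) (g i₀ w) = polar (plusForm 4 F) v w := fun v w => polar_map (E_le_O (h.mem i₀).1) v w
  obtain ⟨e, b, f, k, ge, l, gb⟩ := exists_frame tc hQ (by rw [h8]; norm_num) h.ne hp gO gm (hi ▸ h.pow i₀) (h.ne1 i₀)
  obtain ⟨y, hby, hey, hfy⟩ := exists_hyp_perp hQ k.hyp k.Qb k.b0 k.eb k.fb
  obtain ⟨t₀, ht₀⟩ : ∃ t, s t ≠ t := by
    by_contra hno
    push Not at hno
    exact h.ne (RingEquiv.ext hno)
  have ht0 : t₀ ≠ 0 := by
    rintro rfl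
    exact ht₀ (map_zero s)
  have ht4 : t₀ ^ 2 ≠ 4 := by
    intro h4
    have h5 : (t₀ - 2) * (t₀ + 2) = 0 := by linear_combination h4
    rcases mul_eq_zero.1 h5 with h6 | h6
    · apply ht₀
      rw [sub_eq_zero.1 h6]
      exact map_ofNat s 2
    · apply ht₀
      rw [eq_neg_of_add_eq_zero_left h6, map_neg]
      congr 1
      exact map_ofNat s 2
  have htr : ∀ T : F, T = t₀ ^ 2 → (2 - T) ^ 2 ≠ 4 := by
    rintro _ rfl h4
    have h5 : t₀ ^ 2 * (t₀ ^ 2 - 4) = 0 := by linear_combination h4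
    rcases mul_eq_zero.1 h5 with h6 | h6
    · exact ht0 (pow_eq_zero_iff (two_ne_zero)|>.1 h6)
    · exact ht4 (sub_eq_zero.1 h6)
  -- the polar values
  have ebp := k.eb
  have bep : polar (plusForm 4 F) b e = 0 := by rw [polar_comm]; exact k.eb
  have efp : polar (plusForm 4 F) e f = 1 := k.hyp.pair
  have fep : polar (plusForm 4 F) f e = 1 := k.hyp.pair'
  have fbp := k.fb
  have bfp : polar (plusForm 4 F) b f = 0 := by rw [polar_comm]; exact k.fb
  have byp : polar (plusForm 4 F) b y = 1 := hby.pair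
  have ybp : polar (plusForm 4 F) y b = 1 := hby.pair'
  have yep : polar (plusForm 4 F) y e = 0 := by rw [polar_comm]; exact hey
  have eep : polar (plusForm 4 F) e e = 0 := polar_self_of_sing k.hyp.left
  have bbp : polar (plusForm 4 F) b b = 0 := polar_self_of_sing k.Qb
  have Qe : (plusForm 4 F) e = 0 := k.hyp.left
  have Qf : (plusForm 4 F) f = 0 := k.hyp.right
  have Qb : (plusForm 4 F) b = 0 := k.Qb
  have Qy : (plusForm 4 F) y = 0 := hby.right
  -- the cover `{x₁, u}`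
  have hcov : ∀ ω : Ω, x₁ • ω = ω ∨ u • ω = ω := by
    intro ω
    rcases h.cov ω with h1 | ⟨i, h1⟩
    · exact Or.inl h1
    · rw [hall i] at h1
      exact Or.inr h1
  -- the root group
  have hX : ∀ t : F, x₁ * up κ (XE k t) * x₁⁻¹ = up κ (XE k (s t)) := by
    intro t
    rw [up_apply, up_apply, ← XE_xt k hG h.cube]
    exact h.tri _
  have hgX : ∀ t : F, g₀ * XE k t = XE k t * g₀ := by
    intro t
    have h1 : polar (plusForm 4 F) (g i₀ e) (g i₀ (t • b)) = 0 := by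
      rw [gpol, polar_smul_right, k.eb, smul_zero]
    have h2 : (plusForm 4 F) (g i₀ e) = 0 := by rw [gO, Qe]
    have h3 : SE h2 h1 = XE k t := SE_ext _ _ _ _ fun v => by
      change (SE h2 h1 : V8 F ≃ₗ[F] V8 F) v = (XE k t : V8 F ≃ₗ[F] V8 F) v
      rw [SE_apply, XE_apply]
      have e1 : g i₀ (t • b) = t • b + (t * l) • e := by rw [map_smul, gb]; module
      have e2 : plusForm 4 F (t • b + (t * l) • e) = 0 := by
        rw [← e1, gO, QuadraticMap.map_smul, Qb, smul_zero]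
      rw [e1, ge, e2, polar_add_left, polar_smul_left, polar_smul_left]
      module
    have h4 := SE_conj (c := g₀) k.hyp.left (by rw [polar_smul_right, k.eb, smul_zero] : polar (plusForm 4 F) e (t • b) = 0) h2 h1
      rfl rfl
    rw [h3] at h4
    exact h4
  have huX : ∀ t : F, u * up κ (XE k t) = up κ (XE k t) * u := by
    intro t
    rw [hug, ← map_mul, ← map_mul, hgX]
  -- `d`
  set ρ := s t₀ - t₀ with hρ
  have hρ0 : ρ ≠ 0 := sub_ne_zero.2 ht₀
  set d := up κ (XE k ρ) with hd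
  have dN : d ∈ N := up_mem hκ _
  have dp : d ^ p = 1 := by
    rw [hd, ← map_pow, XE_pow, CharP.cast_eq_zero, zero_mul, XE_zero, map_one]
  have d1 : d ≠ 1 := by
    intro h1
    exact XE_ne k hG hρ0 ((map_eq_one_iff κ hκ.inj).1 h1)
  have hd2 : d = x₁ * up κ (XE k t₀) * x₁⁻¹ * (up κ (XE k t₀))⁻¹ := by
    rw [hX, hd, eq_mul_inv_iff_mul_eq, ← map_mul, ← XE_add, hρ, sub_add_cancel]
  have hcd : ∀ ω : Ω, u • ω = ω ∨ d • ω = ω := by
    intro ω
    refine (mv2 hcov ?_ ω).symm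
    rw [hd2]
    have e1 : x₁ * up κ (XE k t₀) * x₁⁻¹ * (up κ (XE k t₀))⁻¹ =
        1 * x₁ * 1⁻¹ * (up κ (XE k t₀) * x₁ * (up κ (XE k t₀))⁻¹)⁻¹ := by group
    rw [e1]
    refine Subgroup.mul_mem _ (Subgroup.subset_closure ⟨1, by simp, rfl⟩) (Subgroup.inv_mem _ ?_)
    exact Subgroup.subset_closure ⟨_, (huX t₀).symm, rfl⟩
  -- the closure `K`
  have hK : ∀ c : G, c * d = d * c → ∀ ω : Ω, (u * (c * u * c⁻¹)) • ω = ω ∨ d • ω = ω := by
    intro c hc
    apply mv2 hcd
    refine Subgroup.mul_mem _ (Subgroup.subset_closure ⟨1, by simp, by simp⟩) (Subgroup.subset_closure ⟨c, hc, rfl⟩)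
  have hK' : ∀ c : G, c * d = d * c → d = u * (c * u⁻¹ * c⁻¹) → False := by
    intro c hc hd3
    apply d1
    apply hE.single
    intro ω
    have hmem : u * (c * u⁻¹ * c⁻¹) ∈ Subgroup.closure {z | ∃ c : G, c * d = d * c ∧ z = c * u * c⁻¹} := by
      refine Subgroup.mul_mem _ (Subgroup.subset_closure ⟨1, by simp, by simp⟩) ?_
      have e1 : c * u⁻¹ * c⁻¹ = (c * u * c⁻¹)⁻¹ := by group
      rw [e1]
      exact Subgroup.inv_mem _ (Subgroup.subset_closure ⟨c, hc, rfl⟩)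
    rcases mv2 hcd hmem ω with h2 | h2
    · rw [hd3]
      exact h2
    · exact h2
  have hX' : ∀ t : F, XE k t = SE (u := b) (w := (-t) • e) Qb (by rw [polar_smul_right, bep, smul_zero]) := by
    intro t
    refine SE_ext _ _ _ _ fun v => ?_
    change (XE k t : V8 F ≃ₗ[F] V8 F) v = _
    rw [XE_apply, SE_apply, QuadraticMap.map_smul, Qe, polar_smul_left]
    module
  have hucomm : ∀ c : ↥(E (plusForm 4 F)), g₀ * c = c * g₀ → up κ c * u = u * up κ c := by
    intro c hc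
    rw [hug, ← map_mul, ← map_mul, hc]
  by_cases hl : l = 0
  swap
  · -- `g b = b + l e`, `l ≠ 0`
    set t := t₀ / l with ht
    have htl : t * l = t₀ := div_mul_cancel₀ _ hl
    have hbt : polar (plusForm 4 F) b (t • f) = 0 := by rw [polar_smul_right, bfp, smul_zero]
    set c := SE (u := b) (w := t • f) Qb hbt with hcdef
    have hce : (c : V8 F ≃ₗ[F] V8 F) e = e - t • b := by
      rw [hcdef, SE_apply, bep, polar_smul_left, fep]
      module
    have hcb : (c : V8 F ≃ₗ[F] V8 F) b = b := by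
      rw [hcdef, SE_apply, bbp, polar_smul_left, fbp]
      module
    have hie : ((c⁻¹ : ↥(E (plusForm 4 F))) : V8 F ≃ₗ[F] V8 F) e = e + t • b :=
      inv_apply_eq (by rw [map_add, map_smul, hce, hcb]; module)
    have hib : ((c⁻¹ : ↥(E (plusForm 4 F))) : V8 F ≃ₗ[F] V8 F) b = b := inv_apply_eq hcb
    have hcX : c * XE k ρ = XE k ρ * c := by
      rw [hX', hcdef]
      exact SE_comm _ _ _
    have hcd' : up κ c * d = d * up κ c := by rw [hd, ← map_mul, ← map_mul, hcX]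
    have hz := hK (up κ c) hcd'
    have hzz : u * (up κ c * u * (up κ c)⁻¹) = up κ (g₀ * (c * g₀ * c⁻¹)) := by
      rw [hug, map_mul, map_mul, map_mul, map_inv]
    rw [hzz] at hz
    have hud : u * d = d * u := huX ρ
    have hzd : up κ (g₀ * (c * g₀ * c⁻¹)) * d = d * up κ (g₀ * (c * g₀ * c⁻¹)) := by
      rw [← hzz]
      have c1 : Commute u d := hud
      have c2 : Commute (up κ c) d := hcd'
      exact (c1.mul_left ((c2.mul_left c1).mul_left c2.inv_left)).eq
    have gev : (g₀ : V8 F ≃ₗ[F] V8 F) e = e := ge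
    have gbv : (g₀ : V8 F ≃ₗ[F] V8 F) b = b + l • e := gb
    have hze : ((g₀ * (c * g₀ * c⁻¹) : ↥(E (plusForm 4 F))) : V8 F ≃ₗ[F] V8 F) e =
        (1 : F) • ((1 + t₀ - t₀ ^ 2) • e + (-(t * t₀)) • b) := by
      change (g₀ : V8 F ≃ₗ[F] V8 F) ((c : V8 F ≃ₗ[F] V8 F) ((g₀ : V8 F ≃ₗ[F] V8 F)
        (((c⁻¹ : ↥(E (plusForm 4 F))) : V8 F ≃ₗ[F] V8 F) e))) = _
      rw [hie]
      simp only [map_add, map_sub, map_smul, gev, gbv, hce, hcb]
      rw [← htl]
      module
    have hzb : ((g₀ * (c * g₀ * c⁻¹) : ↥(E (plusForm 4 F))) : V8 F ≃ₗ[F] V8 F) b =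
        (1 : F) • ((2 * l - l * t₀) • e + (1 - t₀) • b) := by
      change (g₀ : V8 F ≃ₗ[F] V8 F) ((c : V8 F ≃ₗ[F] V8 F) ((g₀ : V8 F ≃ₗ[F] V8 F)
        (((c⁻¹ : ↥(E (plusForm 4 F))) : V8 F ≃ₗ[F] V8 F) b))) = _
      rw [hib]
      simp only [map_add, map_sub, map_smul, gev, gbv, hce, hcb]
      rw [← htl]
      module
    have hfin := two_elt_false hκ hN hp hG k dN dp d1 hzd hz one_ne_zero (by linear_combination (t₀ * (2 - t₀)) * htl)
      hze hzb
    exact htr _ rfl (by rw [← hfin]; ring)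
  -- `g` is trivial on `L`
  rw [hl, zero_smul, add_zero] at gb
  have gev : (g₀ : V8 F ≃ₗ[F] V8 F) e = e := ge
  have gbv : (g₀ : V8 F ≃ₗ[F] V8 F) b = b := gb
  by_cases hv : ∃ v, polar (plusForm 4 F) e v = 0 ∧ polar (plusForm 4 F) b v = 0 ∧ g i₀ v ≠ v
  · obtain ⟨v, hev, hbv, hgv⟩ := hv
    obtain ⟨α, β, hv⟩ := k.quot tc hQ h8 gm ge gb hev hbv
    by_cases hβ : β = 0
    · have hα : α ≠ 0 := by
        rintro rfl
        apply hgv
        rw [hv, hβ]
        module
      set μ := -ρ / α with hμ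
      have hμα : μ * α = -ρ := div_mul_cancel₀ _ hα
      have w1 : polar (plusForm 4 F) b (μ • v) = 0 := by rw [polar_smul_right, hbv, smul_zero]
      have w2 : polar (plusForm 4 F) b ((-ρ) • e) = 0 := by rw [polar_smul_right, bep, smul_zero]
      have w3 : polar (plusForm 4 F) b ((-ρ) • e + μ • v) = 0 := by rw [polar_add_right, w1, w2, add_zero]
      have e1 : (g₀ : V8 F ≃ₗ[F] V8 F) (μ • v) = (-ρ) • e + μ • v := by
        change g i₀ (μ • v) = _
        rw [map_smul, hv, hβ, ← hμα]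
        module
      have e2 := SE_conj (c := g₀) Qb w1 Qb w3 gbv e1
      rw [← SE_mul Qb w2 w1 w3] at e2
      have e3 : SE (u := b) (w := μ • v) Qb w1 * XE k ρ = XE k ρ * SE (u := b) (w := μ • v) Qb w1 := by
        rw [hX']
        exact SE_comm _ _ _
      rw [← hX' ρ] at e2
      refine hK' (up κ (SE (u := b) (w := μ • v) Qb w1)) (by rw [hd, ← map_mul, ← map_mul, e3]) ?_
      rw [hd, hug, ← map_inv, ← map_inv, ← map_mul, ← map_mul, ← map_mul]
      congr 1
      have e4 : XE k ρ = g₀ * SE (u := b) (w := μ • v) Qb w1 * g₀⁻¹ * (SE (u := b) (w := μ • v) Qb w1)⁻¹ := by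
        rw [e2]
        group
      conv_lhs => rw [e4]
      group
    · set μ := ρ / β with hμ
      have hμβ : μ * β = ρ := div_mul_cancel₀ _ hβ
      have w1 : polar (plusForm 4 F) e (μ • v) = 0 := by rw [polar_smul_right, hev, smul_zero]
      have w2 : polar (plusForm 4 F) e (ρ • b) = 0 := by rw [polar_smul_right, ebp, smul_zero]
      have w4 : polar (plusForm 4 F) e (μ • v + (μ * α) • e) = 0 := by
        rw [polar_add_right, w1, polar_smul_right, eep, smul_zero, add_zero]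
      have w3 : polar (plusForm 4 F) e (ρ • b + (μ • v + (μ * α) • e)) = 0 := by
        rw [polar_add_right, w4, w2, add_zero]
      have e1 : (g₀ : V8 F ≃ₗ[F] V8 F) (μ • v) = ρ • b + (μ • v + (μ * α) • e) := by
        change g i₀ (μ • v) = _
        rw [map_smul, hv, ← hμβ]
        module
      have e2 := SE_conj (c := g₀) Qe w1 Qe w3 gev e1
      have e5 : SE (u := e) (w := μ • v + (μ * α) • e) Qe w4 = SE (u := e) (w := μ • v) Qe w1 := by
        refine SE_ext _ _ _ _ fun z => ?_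
        have q1 : plusForm 4 F (μ • v + (μ * α) • e) = plusForm 4 F (μ • v) := by
          rw [Q_add, QuadraticMap.map_smul _ (μ * α) e, Qe, polar_smul_right, polar_comm, w1]
          simp
        rw [SE_apply, SE_apply, q1, polar_add_left, polar_smul_left _ (μ * α)]
        module
      rw [← SE_mul Qe w2 w4 w3, e5] at e2
      have e3 : SE (u := e) (w := μ • v) Qe w1 * XE k ρ = XE k ρ * SE (u := e) (w := μ • v) Qe w1 :=
        SE_comm _ _ _
      have e6 : SE (u := e) (w := ρ • b) Qe w2 = XE k ρ := rfl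
      rw [e6] at e2
      refine hK' (up κ (SE (u := e) (w := μ • v) Qe w1)) (by rw [hd, ← map_mul, ← map_mul, e3]) ?_
      rw [hd, hug, ← map_inv, ← map_inv, ← map_mul, ← map_mul, ← map_mul]
      congr 1
      have e4 : XE k ρ = g₀ * SE (u := e) (w := μ • v) Qe w1 * g₀⁻¹ * (SE (u := e) (w := μ • v) Qe w1)⁻¹ := by
        rw [e2]
        group
      conv_lhs => rw [e4]
      group
  -- `g` is trivial on `L^⊥`
  push Not at hv
  have hn : ∀ n : V8 F, (∀ v, polar (plusForm 4 F) e v = 0 → polar (plusForm 4 F) b v = 0 →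
      polar (plusForm 4 F) n v = 0) → n = polar (plusForm 4 F) n f • e + polar (plusForm 4 F) n y • b := by
    intro n hn
    rw [← sub_eq_zero]
    apply hQ
    intro w
    have h1 := hn (w - polar (plusForm 4 F) e w • f - polar (plusForm 4 F) b w • y)
      (by rw [polar_sub_right, polar_sub_right, polar_smul_right, polar_smul_right, efp, hey]; simp)
      (by rw [polar_sub_right, polar_sub_right, polar_smul_right, polar_smul_right, bfp, byp]; simp)
    rw [polar_sub_right, polar_sub_right, polar_smul_right, polar_smul_right] at h1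
    rw [polar_sub_left, polar_add_left, polar_smul_left, polar_smul_left]
    simp only [smul_eq_mul] at h1 ⊢
    linear_combination h1
  have hgn : ∀ w : V8 F, ∀ v, polar (plusForm 4 F) e v = 0 → polar (plusForm 4 F) b v = 0 →
      polar (plusForm 4 F) (g i₀ w - w) v = 0 := by
    intro w v h1 h2
    have h3 := gpol w v
    rw [hv v h1 h2] at h3
    rw [polar_sub_left, h3, sub_self]
  have hgw : ∀ w : V8 F, ∃ A B : F, g i₀ w = w + (A • e + B • b) ∧ A * polar (plusForm 4 F) w e +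
      B * polar (plusForm 4 F) w b = 0 := by
    intro w
    refine ⟨polar (plusForm 4 F) (g i₀ w - w) f, polar (plusForm 4 F) (g i₀ w - w) y, ?_, ?_⟩
    · rw [← hn _ (hgn w)]
      abel
    · have h1 := hn _ (hgn w)
      set A := polar (plusForm 4 F) (g i₀ w - w) f
      set B := polar (plusForm 4 F) (g i₀ w - w) y
      have h2 : g i₀ w = w + (A • e + B • b) := by rw [← h1]; abel
      have h3 := gO w
      rw [h2, Q_add, Q_add, QuadraticMap.map_smul, QuadraticMap.map_smul, Qe, Qb, polar_smul_left, polar_smul_right,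
        ebp, polar_add_right, polar_smul_right, polar_smul_right] at h3
      simp only [smul_eq_mul, mul_zero, add_zero] at h3
      linear_combination h3
  obtain ⟨A, B, hgf, hAB⟩ := hgw f
  rw [fep, fbp, mul_one, mul_zero, add_zero] at hAB
  rw [hAB, zero_smul, zero_add] at hgf
  obtain ⟨A', B', hgy, hAB'⟩ := hgw y
  rw [yep, ybp, mul_one, mul_zero, zero_add] at hAB'
  rw [hAB', zero_smul, add_zero] at hgy
  -- `c₁ = siegel b f`
  set c₁ := SE (u := b) (w := f) Qb bfp with hc₁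
  have hc₁v : ∀ v, (c₁ : V8 F ≃ₗ[F] V8 F) v = v + polar (plusForm 4 F) b v • f - polar (plusForm 4 F) f v • b := by
    intro v
    rw [hc₁, SE_apply, Qf]
    module
  have hg1 : g₀ * c₁ = c₁ * g₀ := by
    have w1 : polar (plusForm 4 F) b (f + B • b) = 0 := by
      rw [polar_add_right, polar_smul_right, bfp, bbp, smul_zero, add_zero]
    have e1 : (g₀ : V8 F ≃ₗ[F] V8 F) f = f + B • b := hgf
    have e2 := SE_conj (c := g₀) Qb bfp Qb w1 gbv e1
    have e3 : SE (u := b) (w := f + B • b) Qb w1 = c₁ := by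
      refine SE_ext _ _ _ _ fun z => ?_
      have q1 : plusForm 4 F (f + B • b) = 0 := by rw [← hgf, gO, Qf]
      rw [SE_apply, SE_apply, q1, Qf, polar_add_left, polar_smul_left]
      module
    rw [e3] at e2
    exact e2
  -- `c₂ = siegel e (t₀ y)`
  have hty : polar (plusForm 4 F) e (t₀ • y) = 0 := by rw [polar_smul_right, hey, smul_zero]
  set c₂ := SE (u := e) (w := t₀ • y) Qe hty with hc₂
  have hg2 : g₀ * c₂ = c₂ * g₀ := by
    have w1 : polar (plusForm 4 F) e (t₀ • y + (t₀ * A') • e) = 0 := by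
      rw [polar_add_right, polar_smul_right _ (t₀ * A'), hty, eep, smul_zero, add_zero]
    have e1 : (g₀ : V8 F ≃ₗ[F] V8 F) (t₀ • y) = t₀ • y + (t₀ * A') • e := by
      change g i₀ (t₀ • y) = _
      rw [map_smul, hgy]
      module
    have e2 := SE_conj (c := g₀) Qe hty Qe w1 gev e1
    have e3 : SE (u := e) (w := t₀ • y + (t₀ * A') • e) Qe w1 = c₂ := by
      refine SE_ext _ _ _ _ fun z => ?_
      have q1 : plusForm 4 F (t₀ • y + (t₀ * A') • e) = plusForm 4 F (t₀ • y) := by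
        rw [Q_add, QuadraticMap.map_smul _ (t₀ * A') e, Qe, polar_smul_right _ (t₀ * A'), polar_comm, hty]
        simp
      rw [SE_apply, SE_apply, q1, polar_add_left, polar_smul_left _ (t₀ * A')]
      module
    rw [e3] at e2
    exact e2
  -- the triality image of `c₁`
  obtain ⟨j, c, hc0, hj, hjv⟩ := xt_class hG (tri_fG s) c₁ (k₁ := fun u => u - dia (fG s) (dia (fG s) f u) b)
    (k₂ := fun w => w + dia (fG s) f (dia (fG s) w b)) (by
      intro u w
      rw [← tri_sieg tc Qb Qf bfp, hc₁v])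
  have hje : (j : V8 F ≃ₗ[F] V8 F) e = c⁻¹ • e := by
    have h1 := hjv e
    beta_reduce at h1
    have h2 := tc.lin1 f e b
    rw [k.mbe, tc.zero_left, add_zero, fbp, map_zero, zero_smul] at h2
    rw [h2, sub_zero] at h1
    conv_rhs => rw [h1]
    rw [smul_smul, inv_mul_cancel₀ hc0, one_smul]
  have hjb : (j : V8 F ≃ₗ[F] V8 F) b = c⁻¹ • b := by
    have h1 := hjv b
    beta_reduce at h1
    have h2 := tc.lin1 f b b
    rw [k.mbb, tc.zero_left, add_zero, fbp, map_zero, zero_smul] at h2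
    rw [h2, sub_zero] at h1
    conv_rhs => rw [h1]
    rw [smul_smul, inv_mul_cancel₀ hc0, one_smul]
  have hx1 : x₁ * up κ c₁ * x₁⁻¹ = up κ j := by
    rw [up_apply, up_apply, ← hj]
    exact h.tri _
  set η := c₁⁻¹ * j with hη
  set z := η * (c₂ * η * c₂⁻¹) with hz
  -- the action on `L`
  have c1e : (c₁ : V8 F ≃ₗ[F] V8 F) e = e - b := by
    rw [hc₁v, bep, fep]
    module
  have c1b : (c₁ : V8 F ≃ₗ[F] V8 F) b = b := by
    rw [hc₁v, bbp, fbp]
    module
  have i1e : ((c₁⁻¹ : ↥(E (plusForm 4 F))) : V8 F ≃ₗ[F] V8 F) e = e + b :=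
    inv_apply_eq (by rw [map_add, c1e, c1b]; abel)
  have i1b : ((c₁⁻¹ : ↥(E (plusForm 4 F))) : V8 F ≃ₗ[F] V8 F) b = b := inv_apply_eq c1b
  have c2e : (c₂ : V8 F ≃ₗ[F] V8 F) e = e := by
    rw [hc₂, SE_apply, eep, polar_smul_left, yep]
    module
  have c2b : (c₂ : V8 F ≃ₗ[F] V8 F) b = b - t₀ • e := by
    rw [hc₂, SE_apply, ebp, polar_smul_left, ybp]
    module
  have i2e : ((c₂⁻¹ : ↥(E (plusForm 4 F))) : V8 F ≃ₗ[F] V8 F) e = e := inv_apply_eq c2e
  have i2b : ((c₂⁻¹ : ↥(E (plusForm 4 F))) : V8 F ≃ₗ[F] V8 F) b = b + t₀ • e :=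
    inv_apply_eq (by rw [map_add, map_smul, c2e, c2b]; module)
  have ηe : (η : V8 F ≃ₗ[F] V8 F) e = c⁻¹ • (e + b) := by
    change ((c₁⁻¹ : ↥(E (plusForm 4 F))) : V8 F ≃ₗ[F] V8 F) ((j : V8 F ≃ₗ[F] V8 F) e) = _
    rw [hje, map_smul, i1e]
  have ηb : (η : V8 F ≃ₗ[F] V8 F) b = c⁻¹ • b := by
    change ((c₁⁻¹ : ↥(E (plusForm 4 F))) : V8 F ≃ₗ[F] V8 F) ((j : V8 F ≃ₗ[F] V8 F) b) = _
    rw [hjb, map_smul, i1b]
  have hze : (z : V8 F ≃ₗ[F] V8 F) e = (c⁻¹ * c⁻¹) • ((1 - t₀) • e + (2 - t₀) • b) := by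
    change (η : V8 F ≃ₗ[F] V8 F) ((c₂ : V8 F ≃ₗ[F] V8 F) ((η : V8 F ≃ₗ[F] V8 F)
      (((c₂⁻¹ : ↥(E (plusForm 4 F))) : V8 F ≃ₗ[F] V8 F) e))) = _
    rw [i2e]
    simp only [ηe, ηb, map_add, map_sub, map_smul, c2e, c2b]
    module
  have hzb : (z : V8 F ≃ₗ[F] V8 F) b = (c⁻¹ * c⁻¹) • ((-t₀ ^ 2) • e + (1 + t₀ - t₀ ^ 2) • b) := by
    change (η : V8 F ≃ₗ[F] V8 F) ((c₂ : V8 F ≃ₗ[F] V8 F) ((η : V8 F ≃ₗ[F] V8 F)
      (((c₂⁻¹ : ↥(E (plusForm 4 F))) : V8 F ≃ₗ[F] V8 F) b))) = _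
    rw [i2b]
    simp only [ηe, ηb, map_add, map_sub, map_smul, c2e, c2b]
    module
  -- membership
  have k1 := hucomm c₁ hg1
  have k2 := hucomm c₂ hg2
  have hup : up κ η = (up κ c₁)⁻¹ * x₁ * up κ c₁ * x₁⁻¹ := by
    rw [hη, map_mul, map_inv, ← hx1]
    group
  have hupz : up κ z = up κ η * (up κ c₂ * up κ η * (up κ c₂)⁻¹) := by
    rw [hz, (up κ).map_mul η, (up κ).map_mul (c₂ * η), (up κ).map_mul c₂ η, (up κ).map_inv]
  have kc1 : Commute (up κ c₁) u := k1
  have kc2 : Commute (up κ c₂) u := k2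
  have kx : Commute x₁ u := h.x1_comm i₀
  have hzmem : up κ z ∈ Subgroup.closure {z | ∃ c : G, c * u = u * c ∧ z = c * x₁ * c⁻¹} := by
    have e1 : up κ z = ((up κ c₁)⁻¹ * x₁ * ((up κ c₁)⁻¹)⁻¹) * (1 * x₁ * 1⁻¹)⁻¹ *
        (((up κ c₂ * (up κ c₁)⁻¹) * x₁ * (up κ c₂ * (up κ c₁)⁻¹)⁻¹) * (up κ c₂ * x₁ * (up κ c₂)⁻¹)⁻¹) := by
      rw [hupz, hup]
      group
    rw [e1]
    refine Subgroup.mul_mem _ (Subgroup.mul_mem _ (Subgroup.subset_closure ⟨_, kc1.inv_left.eq, rfl⟩)
      (Subgroup.inv_mem _ (Subgroup.subset_closure ⟨1, by simp, rfl⟩)))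
      (Subgroup.mul_mem _ (Subgroup.subset_closure ⟨_, (kc2.mul_left kc1.inv_left).eq, rfl⟩)
      (Subgroup.inv_mem _ (Subgroup.subset_closure ⟨_, kc2.eq, rfl⟩)))
  have hzu : up κ z * u = u * up κ z := by
    have e1 : Commute (up κ η) u := by
      rw [hup]
      exact ((kc1.inv_left.mul_left kx).mul_left kc1).mul_left kx.inv_left
    have e2 : Commute (up κ z) u := by
      rw [hupz]
      exact e1.mul_left ((kc2.mul_left e1).mul_left kc2.inv_left)
    exact e2.eq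
  have hfin := two_elt_false hκ hN hp hG k uN up1 u1 hzu (mv2 hcov hzmem) (mul_ne_zero (inv_ne_zero hc0) (inv_ne_zero hc0))
    (by ring) hze hzb
  exact htr _ rfl (by rw [← hfin]; ring)

end final

end Cfsg.Agent.H332.RC
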